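import Cfsg.Agent.LocalEvenD.STwo.Scalars

/-!
A 2-group with a group of automorphisms transitive on its involutions and containing, on the
involutions, the multiplications by a large subgroup of scalars (after Higman).
-/

set_option autoImplicit false

set_option linter.unusedSectionVars false
set_option linter.style.haveILetI false

namespace Cfsg.Agent.LocalEvenD.STwo

open scoped commutatorElement

/-- The involutions with `1` are the image of `emb`; `Y` is transitive on the involutions and for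
each `u` in `M` the element `aut u` of `Y` multiplies parameters by `u`. -/
structure Frame (P : Type*) [Group P] (F : Type*) [Field F] where
  emb : F → P
  Y : Subgroup (MulAut P)
  M : Subgroup Fˣ
  aut : M → MulAut P
  emb_add : ∀ a b, emb (a + b) = emb a * emb b
  emb_inj : Function.Injective emb
  emb_range : ∀ x : P, x * x = 1 ↔ ∃ a, emb a = x
  trans : ∀ a b : F, a ≠ 0 → b ≠ 0 → ∃ g ∈ Y, g (emb a) = emb b
  aut_mem : ∀ u, aut u ∈ Y
  aut_emb : ∀ (u : M) a, aut u (emb a) = emb (((u : Fˣ) : F) * a)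
  scalars : Scalars M

namespace Frame

variable {P : Type*} [Group P] {F : Type*} [Field F] (fr : Frame P F)

lemma emb_zero : fr.emb 0 = 1 := by
  have := fr.emb_add 0 0
  rw [add_zero] at this
  exact left_eq_mul.1 this

lemma emb_eq_one {a : F} : fr.emb a = 1 ↔ a = 0 :=
  ⟨fun h => fr.emb_inj (h.trans fr.emb_zero.symm), fun h => h ▸ fr.emb_zero⟩

lemma emb_mul_self (a : F) : fr.emb a * fr.emb a = 1 := (fr.emb_range _).2 ⟨a, rfl⟩

/-- The parameter of an involution. -/
noncomputable def log (x : P) : F := Function.invFun fr.emb x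

lemma log_emb (a : F) : fr.log (fr.emb a) = a := Function.leftInverse_invFun fr.emb_inj a

lemma emb_log {x : P} (hx : x * x = 1) : fr.emb (fr.log x) = x :=
  Function.invFun_eq ((fr.emb_range x).1 hx)

lemma log_one : fr.log 1 = 0 := by rw [← fr.emb_zero, fr.log_emb]

lemma log_mul {x y : P} (hx : x * x = 1) (hy : y * y = 1) :
    fr.log (x * y) = fr.log x + fr.log y := by
  conv_lhs => rw [← fr.emb_log hx, ← fr.emb_log hy, ← fr.emb_add, fr.log_emb]

lemma log_eq_zero {x : P} (hx : x * x = 1) : fr.log x = 0 ↔ x = 1 := by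
  rw [← fr.emb_eq_one, fr.emb_log hx]

include fr in
lemma mul_mem_invol {x y : P} (hx : x * x = 1) (hy : y * y = 1) : (x * y) * (x * y) = 1 := by
  rw [← fr.emb_log hx, ← fr.emb_log hy, ← fr.emb_add]
  exact fr.emb_mul_self _

/-- An automorphism in the coordinates. -/
noncomputable def par (g : MulAut P) (a : F) : F := fr.log (g (fr.emb a))

lemma log_map (g : MulAut P) {x : P} (hx : x * x = 1) : fr.log (g x) = fr.par g (fr.log x) := by
  rw [par, fr.emb_log hx]

lemma symm_mem {g : MulAut P} (hg : g ∈ fr.Y) : g.symm ∈ fr.Y := fr.Y.inv_mem hg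

lemma par_symm (g : MulAut P) (a : F) : fr.par g (fr.par g.symm a) = a := by
  have h : g.symm (fr.emb a) * g.symm (fr.emb a) = 1 := by rw [← map_mul, fr.emb_mul_self, map_one]
  rw [par, par, fr.emb_log h, MulEquiv.apply_symm_apply, fr.log_emb]

lemma par_of_eq {g : MulAut P} {a b : F} (h : g (fr.emb a) = fr.emb b) : fr.par g a = b := by
  rw [par, h, fr.log_emb]

lemma par_zero (g : MulAut P) : fr.par g 0 = 0 := by rw [par, fr.emb_zero, map_one, fr.log_one]

lemma log_aut (u : fr.M) {x : P} (hx : x * x = 1) :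
    fr.log (fr.aut u x) = ((u : Fˣ) : F) * fr.log x := by
  conv_lhs => rw [← fr.emb_log hx, fr.aut_emb, fr.log_emb]

/-- Invariance of a set under the automorphisms. -/
def Inv (S : Set P) : Prop := ∀ g ∈ fr.Y, ∀ x ∈ S, g x ∈ S

/-- Invariance of a set under the scalars. -/
def InvM (S : Set P) : Prop := ∀ u, ∀ x ∈ S, fr.aut u x ∈ S

lemma Inv.invM {S : Set P} (h : fr.Inv S) : fr.InvM S := fun u x hx => h _ (fr.aut_mem u) x hx

lemma mem_of_aut_mem [Finite P] {S : Set P} (hS : fr.InvM S) {u : fr.M} {x : P}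
    (hx : fr.aut u x ∈ S) : x ∈ S := by
  obtain ⟨⟨y, hy⟩, hyx⟩ :=
    (Finite.injective_iff_surjective (f := fun z : S => (⟨fr.aut u z, hS u z z.2⟩ : S))).1
      (fun a b h => Subtype.ext ((fr.aut u).injective (congrArg Subtype.val h))) ⟨fr.aut u x, hx⟩
  obtain rfl := (fr.aut u).injective (congrArg Subtype.val hyx)
  exact hy

lemma exists_aut_preimage [Finite P] {S : Set P} (hS : fr.InvM S) (u : fr.M) {x : P} (hx : x ∈ S) :
    ∃ y ∈ S, fr.aut u y = x := by
  obtain ⟨y, rfl⟩ := (fr.aut u).surjective x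
  exact ⟨y, fr.mem_of_aut_mem hS hx, rfl⟩

section two

variable [Finite P] (hP : IsPGroup 2 P)
include hP

lemma exists_invol_power {x : P} (hx : x ≠ 1) : ∃ n : ℕ, x ^ n ≠ 1 ∧ x ^ n * x ^ n = 1 := by
  obtain ⟨k, hk⟩ := hP x
  have hex : ∃ j, x ^ 2 ^ j = 1 := ⟨k, hk⟩
  classical
  have hj0 : Nat.find hex ≠ 0 := fun h => by
    have := Nat.find_spec hex
    rw [h] at this
    exact hx (by simpa using this)
  obtain ⟨j, hj⟩ := Nat.exists_eq_succ_of_ne_zero hj0
  refine ⟨2 ^ j, Nat.find_min hex (by omega), ?_⟩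
  rw [← pow_add, ← two_mul, ← pow_succ', ← Nat.succ_eq_add_one, ← hj]
  exact Nat.find_spec hex

/-- The involutions are central. -/
lemma emb_central (a : F) (g : P) : g * fr.emb a = fr.emb a * g := by
  rcases eq_or_ne a 0 with rfl | ha
  · simp [fr.emb_zero]
  have : Fact (Nat.Prime 2) := ⟨Nat.prime_two⟩
  have : Nontrivial P := ⟨⟨fr.emb a, 1, fun h => ha (fr.emb_eq_one.1 h)⟩⟩
  have := IsPGroup.center_nontrivial hP
  obtain ⟨z, hz, hz1⟩ := (Subgroup.nontrivial_iff_exists_ne_one _).1 this
  obtain ⟨n, hn1, hn2⟩ := exists_invol_power hP hz1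
  obtain ⟨b, hb⟩ := (fr.emb_range _).1 hn2
  have hb0 : b ≠ 0 := fun h => hn1 (by rw [← hb, h, fr.emb_zero])
  have hbc : fr.emb b ∈ Subgroup.center P := hb ▸ pow_mem hz n
  obtain ⟨k, -, hk⟩ := fr.trans b a hb0 ha
  have hc := Subgroup.mem_center_iff.1 hbc (k.symm g)
  have := congrArg k hc
  rwa [map_mul, map_mul, MulEquiv.apply_symm_apply, hk] at this

include fr in
lemma invol_central {x : P} (hx : x * x = 1) (g : P) : g * x = x * g := by
  rw [← fr.emb_log hx]; exact fr.emb_central hP _ g

/-- An invariant subgroup other than `⊥` contains all involutions. -/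
lemma emb_mem {H : Subgroup P} (hH : fr.Inv (H : Set P)) (hne : H ≠ ⊥) (a : F) :
    fr.emb a ∈ H := by
  rcases eq_or_ne a 0 with rfl | ha
  · rw [fr.emb_zero]; exact H.one_mem
  obtain ⟨x, hx, hx1⟩ := H.bot_or_exists_ne_one.resolve_left hne
  obtain ⟨n, hn1, hn2⟩ := exists_invol_power hP hx1
  obtain ⟨b, hb⟩ := (fr.emb_range _).1 hn2
  have hb0 : b ≠ 0 := fun h => hn1 (by rw [← hb, h, fr.emb_zero])
  obtain ⟨k, hkY, hk⟩ := fr.trans b a hb0 ha
  rw [← hk]
  exact hH k hkY _ (hb ▸ H.pow_mem hx n)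

section field

variable [Fintype F] [CharP F 2]

omit [Finite P] hP in
lemma odd_orderOf (u : Fˣ) : Odd (orderOf u) := by
  classical
  have h1 : Odd (Fintype.card Fˣ) := by
    rw [Fintype.card_units]
    obtain ⟨n, hp, hn⟩ := FiniteField.card F 2
    rw [hn]
    exact Nat.Even.sub_odd Nat.one_le_two_pow
      ((Nat.even_pow).2 ⟨even_two, n.pos.ne'⟩) odd_one
  exact h1.of_dvd_nat orderOf_dvd_card

/-- A lift of a scalar of order above one has no orbit of odd size away from `1`. -/
lemma not_invariant {u : fr.M} (hu : u ≠ 1) {S : Set P} {m : ℕ} (h1 : (1 : P) ∉ S)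
    (hS : ∀ x ∈ S, fr.aut u x ∈ S) (hcard : Nat.card S = 2 ^ m) : False := by
  classical
  set K := Subgroup.zpowers (fr.aut u)
  haveI : Finite (MulAut P) :=
    Finite.of_injective (fun g : MulAut P => (g : P → P)) DFunLike.coe_injective
  have hK : ∀ g ∈ K, ∀ x ∈ S, g x ∈ S := by
    intro g hg
    obtain ⟨n, rfl⟩ :=
      (IsOfFinOrder.mem_powers_iff_mem_zpowers (isOfFinOrder_of_finite _)).2 hg
    intro x hx
    induction n with
    | zero => simpa using hx
    | succ n ih =>
      show (fr.aut u ^ (n + 1)) x ∈ S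
      rw [pow_succ', MulAut.mul_apply]
      exact hS _ (ih (Subgroup.npow_mem_zpowers _ n))
  have hpow : ∀ (n : ℕ) a, (fr.aut u ^ n) (fr.emb a) = fr.emb ((((u : Fˣ) ^ n : Fˣ) : F) * a) := by
    intro n
    induction n with
    | zero => simp
    | succ n ih => intro a; rw [pow_succ', MulAut.mul_apply, ih, fr.aut_emb, pow_succ', Units.val_mul, mul_assoc]
  letI A : MulAction K S :=
    { smul := fun g x => ⟨(g : MulAut P) x, hK g g.2 x x.2⟩
      one_smul := fun x => Subtype.ext rfl
      mul_smul := fun g g' x => Subtype.ext rfl }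
  set r := orderOf (u : Fˣ) with hr
  have hdvd : ∀ x : S, r ∣ Nat.card (MulAction.orbit K x) := by
    intro x
    obtain ⟨n, hn1, hn2⟩ := exists_invol_power hP (x := (x : P)) (fun h => h1 (h ▸ x.2))
    let g : K := ⟨fr.aut u, Subgroup.mem_zpowers _⟩
    have hgK : Subgroup.zpowers g = ⊤ := by
      refine (Subgroup.eq_top_iff' _).2 fun k => ?_
      obtain ⟨z, hz⟩ := k.2
      exact ⟨z, Subtype.ext (by simpa using hz)⟩
    rw [Nat.card_coe_set_eq, ← MulAction.index_stabilizer]
    set k := (MulAction.stabilizer K x).index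
    have hmem : g ^ k ∈ MulAction.stabilizer K x := by
      haveI : (MulAction.stabilizer K x).Normal :=
        Subgroup.normal_of_comm _
      exact Subgroup.pow_index_mem _ g
    have hfx : (fr.aut u ^ k) ((x : P) ^ n) = (x : P) ^ n := by
      have h2 : (((g ^ k : K) : MulAut P)) (x : P) = (x : P) := congrArg Subtype.val hmem
      rw [SubgroupClass.coe_pow] at h2
      rw [map_pow, h2]
    obtain ⟨a, ha⟩ := (fr.emb_range _).1 hn2
    have ha0 : a ≠ 0 := fun h => hn1 (by rw [← ha, h, fr.emb_zero])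
    rw [← ha, hpow] at hfx
    have h3 := fr.emb_inj hfx
    exact orderOf_dvd_of_pow_eq_one (Units.ext (mul_right_cancel₀ ha0 (h3.trans (one_mul a).symm)))
  have htot : r ∣ Nat.card S := by
    have : Finite (MulAction.orbitRel.Quotient K S) := inferInstance
    letI := Fintype.ofFinite (MulAction.orbitRel.Quotient K S)
    rw [Nat.card_congr (MulAction.selfEquivSigmaOrbits K S), Nat.card_sigma]
    exact Finset.dvd_sum fun ω _ => hdvd _
  rw [hcard] at htot
  refine hu (Subtype.ext (orderOf_eq_one_iff.1 ?_))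
  exact Nat.Coprime.eq_one_of_dvd (Nat.Coprime.pow_right _ (odd_orderOf _).coprime_two_right) htot

/-- A coset of an invariant subgroup fixed by a non-trivial scalar is the trivial one. -/
lemma mem_of_coset_fixed {u : fr.M} (hu : u ≠ 1) {H : Subgroup P} (hH : fr.InvM (H : Set P)) {x : P}
    (hx : x⁻¹ * fr.aut u x ∈ H) : x ∈ H := by
  by_contra hxH
  haveI : Fact (Nat.Prime 2) := ⟨Nat.prime_two⟩
  obtain ⟨m, hm⟩ := (IsPGroup.iff_card (p := 2)).1 (hP.to_subgroup H)
  refine fr.not_invariant hP hu (S := (fun h => x * h) '' (H : Set P)) (m := m) ?_ ?_ ?_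
  · rintro ⟨h, hh, he⟩
    exact hxH (by rw [eq_inv_of_mul_eq_one_left he]; exact H.inv_mem hh)
  · rintro y ⟨h, hh, rfl⟩
    refine ⟨x⁻¹ * fr.aut u x * fr.aut u h, H.mul_mem hx (hH u h hh), ?_⟩
    simp [map_mul, mul_assoc]
  · rw [Nat.card_image_of_injective (mul_right_injective x)]
    exact hm

/-- An invariant subgroup containing, with any two elements outside it, their quotient is
everything above it. -/
lemma le_of_index_two {H L : Subgroup P} (hH : fr.InvM (H : Set P)) (hL : fr.InvM (L : Set P))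
    {u : fr.M} (hu : u ≠ 1) (h2 : ∀ x ∈ L, ∀ y ∈ L, x ∉ H → y ∉ H → x⁻¹ * y ∈ H) : L ≤ H := by
  intro x hx
  by_contra hxH
  exact hxH (fr.mem_of_coset_fixed hP hu hH (h2 x hx _ (hL u x hx) hxH fun h => hxH
    (fr.mem_of_aut_mem hH h)))

end field

end two

/-- An additive subgroup closed under the scalars is zero or everything. -/
lemma eq_top_of_scalar (S : AddSubgroup F) (hS : ∀ u ∈ fr.M, ∀ a ∈ S, (u : F) * a ∈ S) {b : F}
    (hb : b ∈ S) (hb0 : b ≠ 0) (c : F) : c ∈ S := by
  have h : ∀ x ∈ AddSubgroup.closure ((fun u : Fˣ => (u : F)) '' (fr.M : Set Fˣ)),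
      x * b ∈ S := by
    intro x hx
    induction hx using AddSubgroup.closure_induction with
    | mem a ha => obtain ⟨u, hu, rfl⟩ := ha; exact hS u hu b hb
    | zero => rw [zero_mul]; exact S.zero_mem
    | add a b _ _ h1 h2 => rw [add_mul]; exact S.add_mem h1 h2
    | neg a _ h1 => rw [neg_mul]; exact S.neg_mem h1
  rw [← div_mul_cancel₀ c hb0]
  exact h _ (fr.scalars.span ▸ AddSubgroup.mem_top _)

variable [Fintype F] [CharP F 2]

/-- An alternating biadditive map with `β (u a) (u b) = u β a b` on the scalars vanishes. -/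
theorem pairing_zero (β : F → F → F) (hl : ∀ a b c, β (a + b) c = β a c + β b c)
    (hr : ∀ a b c, β a (b + c) = β a b + β a c)
    (hs : ∀ u ∈ fr.M, ∀ a b, β ((u : F) * a) ((u : F) * b) = (u : F) * β a b)
    (halt : ∀ a, β a a = 0) : ∀ a b, β a b = 0 := by
  classical
  have : Finite (F ≃+* F) :=
    Finite.of_injective (fun τ : F ≃+* F => (τ : F → F)) DFunLike.coe_injective
  letI : Fintype (F ≃+* F) := Fintype.ofFinite _
  let eA : ((F ≃+* F) → F) ≃+ (F →+ F) := AddEquiv.ofBijective RankOne.autSum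
    ⟨RankOne.autSum_injective, RankOne.autSum_surjective⟩
  let right : F → F →+ F := fun a => AddMonoidHom.mk' (β a) (hr a)
  let c : F → (F ≃+* F) → F := fun a => eA.symm (right a)
  have hc : ∀ a b, β a b = ∑ σ : F ≃+* F, c a σ * σ b := fun a b => by
    show right a b = _
    conv_lhs => rw [← eA.apply_symm_apply (right a)]
    exact RankOne.autSum_apply _ _
  let left : (F ≃+* F) → F →+ F := fun σ => AddMonoidHom.mk' (fun a => c a σ) fun a b => by
    show eA.symm (right (a + b)) σ = _
    rw [show right (a + b) = right a + right b from AddMonoidHom.ext fun x => hl a b x, map_add]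
    rfl
  let d : (F ≃+* F) → (F ≃+* F) → F := fun σ => eA.symm (left σ)
  have hd : ∀ σ a, c a σ = ∑ τ : F ≃+* F, d σ τ * τ a := fun σ a => by
    show left σ a = _
    conv_lhs => rw [← eA.apply_symm_apply (left σ)]
    exact RankOne.autSum_apply _ _
  have heqv : ∀ σ τ, d σ τ ≠ 0 → ∀ u ∈ fr.M, σ (u : F) * τ (u : F) = (u : F) := by
    intro σ τ hne u hu
    have h1 : ∀ a, (fun σ => c ((u : F) * a) σ * σ (u : F)) = fun σ => (u : F) * c a σ := by
      intro a
      refine RankOne.autSum_injective (AddMonoidHom.ext fun b => ?_)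
      rw [RankOne.autSum_apply, RankOne.autSum_apply]
      have := hs u hu a b
      rw [hc, hc, Finset.mul_sum] at this
      simpa only [map_mul, mul_assoc] using this
    have h2 : (fun τ => d σ τ * τ (u : F) * σ (u : F)) = fun τ => (u : F) * d σ τ := by
      refine RankOne.autSum_injective (AddMonoidHom.ext fun a => ?_)
      rw [RankOne.autSum_apply, RankOne.autSum_apply]
      have := congrFun (h1 a) σ
      rw [hd, hd, Finset.sum_mul, Finset.mul_sum] at this
      convert this using 2 with τ' _ τ' _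
      · rw [map_mul]; ring
      · ring
    have h3 := congrFun h2 τ
    exact mul_left_cancel₀ hne (by linear_combination h3)
  have hone : ∀ σ τ σ' τ', d σ τ ≠ 0 → d σ' τ' ≠ 0 → σ = τ ∧ σ' = σ ∧ τ' = σ := by
    intro σ τ σ' τ' h1 h2
    have e1 := fr.scalars.root σ τ (heqv σ τ h1)
    have e2 := fr.scalars.root σ' τ' (heqv σ' τ' h2)
    subst e1 e2
    have : σ' = σ := by
      refine RingEquiv.ext fun x => ?_
      have hsq : ∀ u ∈ fr.M, σ' (u : F) = σ (u : F) := fun u hu => by
        have h := (heqv _ _ h2 u hu).trans (heqv _ _ h1 u hu).symm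
        have h3 : (σ' (u : F) + σ (u : F)) * (σ' (u : F) + σ (u : F)) = 0 := by
          have h4 : (2 : F) = 0 := CharTwo.two_eq_zero
          linear_combination h + (σ (u : F) * σ (u : F) + σ' (u : F) * σ (u : F)) * h4
        exact CharTwo.add_eq_zero.1 (mul_self_eq_zero.1 h3)
      have hall : ∀ y ∈ AddSubgroup.closure ((fun u : Fˣ => (u : F)) '' (fr.M : Set Fˣ)),
          σ' y = σ y := by
        intro y hy
        induction hy using AddSubgroup.closure_induction with
        | mem a ha => obtain ⟨u, hu, rfl⟩ := ha; exact hsq u hu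
        | zero => rw [map_zero, map_zero]
        | add a b _ _ h1 h2 => rw [map_add, map_add, h1, h2]
        | neg a _ h1 => rw [map_neg, map_neg, h1]
      exact hall x (fr.scalars.span ▸ AddSubgroup.mem_top _)
    exact ⟨rfl, this, this⟩
  intro a b
  rw [hc]
  by_cases hall : ∀ σ τ, d σ τ = 0
  · simp [hd, hall]
  push Not at hall
  obtain ⟨σ₀, τ₀, h0⟩ := hall
  exfalso
  obtain ⟨rfl, -, -⟩ := hone σ₀ τ₀ σ₀ τ₀ h0 h0
  have hform : ∀ a b, β a b = d σ₀ σ₀ * σ₀ a * σ₀ b := by
    intro a b
    rw [hc, Finset.sum_eq_single σ₀ (fun σ _ hσ => ?_) (fun h => absurd (Finset.mem_univ _) h),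
      hd, Finset.sum_eq_single σ₀ (fun τ _ hτ => ?_) (fun h => absurd (Finset.mem_univ _) h)]
    · rw [mul_eq_zero]; left
      by_contra h
      exact hτ (hone σ₀ σ₀ σ₀ τ h0 h).2.2
    · rw [mul_eq_zero]; left
      rw [hd]
      refine Finset.sum_eq_zero fun τ _ => mul_eq_zero.2 (Or.inl ?_)
      by_contra h
      exact hσ (hone σ₀ σ₀ σ τ h0 h).2.1
  have := halt 1
  rw [hform, map_one, mul_one, mul_one] at this
  exact h0 this

end Frame

end Cfsg.Agent.LocalEvenD.STwo
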