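import Mathlib
import Cfsg.Agent.LocalEvenD.STwo.Frame

/-!
In a Suzuki 2-group (non-abelian) every invariant normal abelian subgroup has exponent at most 4.
-/

set_option autoImplicit false

namespace Cfsg.Agent.LocalEvenD.STwo

open scoped commutatorElement

variable {P : Type*} [Group P]

/-- `y ↦ y² ∈ A` and `[y, P] ⊆ A`: the elements lying over involutions of the centre of `P ⧸ A`. -/
def upperSub (A : Subgroup P) (hA : A.Normal) : Subgroup P where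
  carrier := {y | y * y ∈ A ∧ ∀ g, ⁅y, g⁆ ∈ A}
  one_mem' := ⟨by simp, fun g => by simp⟩
  mul_mem' {x y} hx hy := by
    refine ⟨?_, fun g => ?_⟩
    · have h1 : x * y * (x * y) = x * x * ⁅x⁻¹, y⁆ * (y * y) := by
        simp [commutatorElement_def, mul_assoc]
      rw [h1]
      refine A.mul_mem (A.mul_mem hx.1 ?_) hy.1
      rw [commutatorElement_inv_left]
      simpa using hA.conj_mem _ (hy.2 x) x⁻¹
    · rw [commutatorElement_mul_left_eq_conj_mul]
      exact A.mul_mem (hA.conj_mem _ (hy.2 g) x) (hx.2 g)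
  inv_mem' {x} hx := by
    refine ⟨?_, fun g => ?_⟩
    · rw [← mul_inv_rev]; exact A.inv_mem hx.1
    · rw [commutatorElement_inv_left]
      have : ⁅g, x⁆ ∈ A := by rw [← commutatorElement_inv]; exact A.inv_mem (hx.2 g)
      simpa using hA.conj_mem _ this x⁻¹

lemma mem_upperSub {A : Subgroup P} {hA : A.Normal} {y : P} :
    y ∈ upperSub A hA ↔ y * y ∈ A ∧ ∀ g, ⁅y, g⁆ ∈ A := Iff.rfl

lemma le_upperSub (A : Subgroup P) (hA : A.Normal) : A ≤ upperSub A hA := fun a ha =>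
  ⟨A.mul_mem ha ha, fun g => by
    rw [show ⁅a, g⁆ = a * (g * a⁻¹ * g⁻¹) by rw [commutatorElement_def]; group]
    exact A.mul_mem ha (hA.conj_mem _ (A.inv_mem ha) g)⟩

lemma conj_mem_upperSub {A : Subgroup P} {hA : A.Normal} {y : P} (hy : y ∈ upperSub A hA) (g : P) :
    g * y * g⁻¹ ∈ upperSub A hA := by
  rw [show g * y * g⁻¹ = ⁅g, y⁆ * y by simp [commutatorElement_def, mul_assoc]]
  refine Subgroup.mul_mem _ (le_upperSub A hA ?_) hy
  rw [← commutatorElement_inv]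
  exact A.inv_mem (hy.2 g)

lemma exists_upperSub [Finite P] (hP : IsPGroup 2 P) (A : Subgroup P) (hA : A.Normal)
    (htop : A ≠ ⊤) : ∃ y ∈ upperSub A hA, y ∉ A := by
  have : Fact (Nat.Prime 2) := ⟨Nat.prime_two⟩
  have : Nontrivial (P ⧸ A) := by
    obtain ⟨x, -, hx⟩ := SetLike.exists_of_lt (lt_top_iff_ne_top.2 htop)
    exact ⟨⟨(x : P ⧸ A), 1, fun h => hx ((QuotientGroup.eq_one_iff x).1 h)⟩⟩
  have hQ : IsPGroup 2 (P ⧸ A) := hP.to_quotient A
  have := IsPGroup.center_nontrivial hQ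
  obtain ⟨z, hz, hz1⟩ := (Subgroup.nontrivial_iff_exists_ne_one _).1 this
  obtain ⟨n, hn1, hn2⟩ := Frame.exists_invol_power hQ hz1
  obtain ⟨y, hy⟩ := QuotientGroup.mk_surjective (z ^ n)
  refine ⟨y, ⟨(QuotientGroup.eq_one_iff _).1 ?_, fun g => (QuotientGroup.eq_one_iff _).1 ?_⟩,
    fun h => hn1 ?_⟩
  · rw [QuotientGroup.mk_mul, hy, hn2]
  · rw [← QuotientGroup.mk'_apply, map_commutatorElement, QuotientGroup.mk'_apply, hy,
      commutatorElement_eq_one_iff_mul_comm]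
    exact (Subgroup.mem_center_iff.1 (Subgroup.pow_mem _ hz n) _).symm
  · rw [← hy, (QuotientGroup.eq_one_iff y).2 h]

namespace Frame

variable {F : Type*} [Field F] (fr : Frame P F)

lemma upperSub_inv {A : Subgroup P} {hA : A.Normal} (hAi : fr.Inv (A : Set P)) :
    fr.Inv (upperSub A hA : Set P) := by
  intro g hg y hy
  refine ⟨?_, fun x => ?_⟩
  · rw [← map_mul]; exact hAi g hg _ hy.1
  · rw [← g.apply_symm_apply x, ← map_commutatorElement]; exact hAi g hg _ (hy.2 _)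

lemma centralizer_inv {A : Subgroup P} (hAi : fr.Inv (A : Set P)) :
    fr.Inv (Subgroup.centralizer (A : Set P) : Set P) := by
  intro g hg y hy
  rw [SetLike.mem_coe, Subgroup.mem_centralizer_iff] at hy ⊢
  intro a ha
  have := congrArg g (hy _ (hAi g.symm (fr.symm_mem hg) a ha))
  rwa [map_mul, map_mul, MulEquiv.apply_symm_apply] at this

section main

variable [Finite P] [Fintype F] [CharP F 2] (hP : IsPGroup 2 P)
  {A : Subgroup P} (hA : A.Normal) (hAi : fr.Inv (A : Set P))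
  (hAc : ∀ a ∈ A, ∀ b ∈ A, a * b = b * a)
include hP hAi

lemma top_onto {g : ℕ} (hexp : ∀ a ∈ A, a ^ 2 ^ (g + 1) = 1) (hne : ∃ a ∈ A, a ^ 2 ^ g ≠ 1)
    (e : F) : ∃ c ∈ A, c ^ 2 ^ g = fr.emb e := by
  obtain ⟨a, ha, ha1⟩ := hne
  have h2 : a ^ 2 ^ g * a ^ 2 ^ g = 1 := by rw [← pow_add, ← two_mul, ← pow_succ']; exact hexp a ha
  rcases eq_or_ne e 0 with rfl | he
  · exact ⟨1, A.one_mem, by rw [one_pow, fr.emb_zero]⟩
  obtain ⟨b, hbe⟩ := (fr.emb_range _).1 h2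
  have hb : b ≠ 0 := fun h => ha1 (by rw [← hbe, h, fr.emb_zero])
  obtain ⟨k, hk, hke⟩ := fr.trans b e hb he
  refine ⟨k a, hAi k hk _ ha, ?_⟩
  rw [← map_pow, ← hbe, hke]

include hAc

lemma root_of_killed {g : ℕ} (hexp : ∀ a ∈ A, a ^ 2 ^ (g + 1) = 1)
    (hne : ∃ a ∈ A, a ^ 2 ^ g ≠ 1) : ∀ i, i ≤ g + 1 → ∀ a ∈ A, a ^ 2 ^ i = 1 →
      ∃ b ∈ A, b ^ 2 ^ (g + 1 - i) = a := by
  intro i
  induction i with
  | zero => intro _ a _ ha1; exact ⟨1, A.one_mem, by rw [one_pow]; simpa using ha1.symm⟩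
  | succ i ih =>
    intro hi a ha ha1
    have h2 : a ^ 2 ^ i * a ^ 2 ^ i = 1 := by rw [← pow_add, ← two_mul, ← pow_succ']; exact ha1
    obtain ⟨c, hc, hce⟩ := fr.top_onto hP hAi hexp hne (fr.log (a ^ 2 ^ i))
    rw [fr.emb_log h2] at hce
    have hgi : 2 ^ (g - i) * 2 ^ i = 2 ^ g := by rw [← pow_add]; congr 1; omega
    have hci : c ^ 2 ^ (g - i) ∈ A := A.pow_mem hc _
    obtain ⟨b, hb, hbe⟩ := ih (by omega) (a * (c ^ 2 ^ (g - i))⁻¹)
      (A.mul_mem ha (A.inv_mem hci))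
      (by rw [(show Commute a (c ^ 2 ^ (g - i))⁻¹ from hAc _ ha _ (A.inv_mem hci)).mul_pow,
            inv_pow, ← pow_mul, hgi, hce, mul_inv_cancel])
    refine ⟨b * b * c, A.mul_mem (A.mul_mem hb hb) hc, ?_⟩
    have e1 : g + 1 - i = (g - i) + 1 := by omega
    have e2 : g + 1 - (i + 1) = g - i := by omega
    rw [e2, (show Commute (b * b) c from hAc _ (A.mul_mem hb hb) _ hc).mul_pow,
      show (b * b) ^ 2 ^ (g - i) = b ^ 2 ^ (g + 1 - i) by
        rw [e1, pow_succ' 2, pow_mul, pow_two],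
      hbe, inv_mul_cancel_right]

lemma eq_sq_of_killed {g : ℕ} (hexp : ∀ a ∈ A, a ^ 2 ^ (g + 1) = 1)
    (hne : ∃ a ∈ A, a ^ 2 ^ g ≠ 1) {a : P} (ha : a ∈ A) (h : a ^ 2 ^ g = 1) :
    ∃ b ∈ A, b * b = a := by
  obtain ⟨b, hb, hbe⟩ := fr.root_of_killed hP hAi hAc hexp hne g (by omega) a ha h
  refine ⟨b, hb, ?_⟩
  rw [← hbe, show g + 1 - g = 1 by omega, pow_one, pow_two]

include hA

/-- The elements over `A` centralising `A` form an abelian subgroup. -/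
lemma upper_cent_comm {g : ℕ} (hg : 1 ≤ g) (hexp : ∀ a ∈ A, a ^ 2 ^ (g + 1) = 1)
    (hne : ∃ a ∈ A, a ^ 2 ^ g ≠ 1) :
    (∀ x ∈ upperSub A hA ⊓ Subgroup.centralizer (A : Set P),
      ∀ y ∈ upperSub A hA ⊓ Subgroup.centralizer (A : Set P), x * y = y * x) ∧
      ∀ y ∈ upperSub A hA ⊓ Subgroup.centralizer (A : Set P), y ∉ A → y ^ 2 ^ (g + 1) ≠ 1 := by
  set T := upperSub A hA ⊓ Subgroup.centralizer (A : Set P) with hT
  have hTA : ∀ y ∈ T, ∀ a ∈ A, a * y = y * a := fun y hy a ha =>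
    Subgroup.mem_centralizer_iff.1 (Subgroup.mem_inf.1 hy).2 a ha
  have hTU : ∀ y ∈ T, y ∈ upperSub A hA := fun y hy => (Subgroup.mem_inf.1 hy).1
  have hcomm2 : ∀ x ∈ T, ∀ y ∈ T, ⁅x, y⁆ * ⁅x, y⁆ = 1 := by
    intro x hx y hy
    have h1 : ⁅x, y * y⁆ = 1 := commutatorElement_eq_one_iff_mul_comm.2
      (hTA x hx _ (hTU y hy).1).symm
    rw [commutatorElement_mul_right_eq_mul_conj] at h1
    have h2 : y * ⁅x, y⁆ * y⁻¹ = ⁅x, y⁆ := by
      rw [← hTA y hy _ ((hTU x hx).2 y), mul_inv_cancel_right]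
    rwa [mul_assoc ⁅x, y⁆ y, mul_assoc ⁅x, y⁆ (y * ⁅x, y⁆) y⁻¹, h2] at h1
  have hinvol : ∀ y ∈ T, (y * y) ^ 2 ^ g * (y * y) ^ 2 ^ g = 1 := fun y hy => by
    rw [← pow_add, ← two_mul, ← pow_succ']; exact hexp _ (hTU y hy).1
  have hker : ∀ y ∈ T, fr.log ((y * y) ^ 2 ^ g) = 0 → y ∈ A := by
    intro y hy h
    obtain ⟨b, hb, hbe⟩ := fr.eq_sq_of_killed hP hAi hAc hexp hne (hTU y hy).1
      ((fr.log_eq_zero (hinvol y hy)).1 h)
    have hc : (y * b⁻¹) * (y * b⁻¹) = 1 := by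
      rw [show y * b⁻¹ * (y * b⁻¹) = y * (b⁻¹ * y) * b⁻¹ by group, hTA y hy _ (A.inv_mem hb),
        show y * (y * b⁻¹) * b⁻¹ = (y * y) * (b * b)⁻¹ by group, hbe, mul_inv_cancel]
    have hAb : A ≠ ⊥ := fun h0 => by
      obtain ⟨a, ha, ha1⟩ := hne
      rw [h0, Subgroup.mem_bot] at ha
      exact ha1 (by rw [ha, one_pow])
    have := fr.emb_mem hP hAi hAb (fr.log (y * b⁻¹))
    rw [fr.emb_log hc] at this
    simpa using A.mul_mem this hb
  refine ⟨?_, fun y hy hyA h => hyA (hker y hy ?_)⟩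
  · by_cases hall : ∀ y ∈ T, y ∈ A
    · exact fun x hx y hy => hAc _ (hall x hx) _ (hall y hy)
    rw [not_forall] at hall
    obtain ⟨y0, hy0⟩ := hall
    obtain ⟨hy0T, hy0A⟩ : y0 ∈ T ∧ y0 ∉ A := by rwa [Classical.not_imp] at hy0
    have hTi : fr.Inv (T : Set P) := fun k hk y hy => Subgroup.mem_inf.2
      ⟨fr.upperSub_inv hAi k hk y (Subgroup.mem_inf.1 hy).1,
        fr.centralizer_inv hAi k hk y (Subgroup.mem_inf.1 hy).2⟩
    let π : P → F := fun y => fr.log ((y * y) ^ 2 ^ g)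
    have hπadd : ∀ x ∈ T, ∀ y ∈ T, π (x * y) = π x + π y := by
      intro x hx y hy
      have he : ⁅x⁻¹, y⁆ * ⁅x⁻¹, y⁆ = 1 := hcomm2 _ (T.inv_mem hx) y hy
      have heA : ⁅x⁻¹, y⁆ ∈ A := (hTU _ (T.inv_mem hx)).2 y
      have h1 : x * y * (x * y) = x * x * ⁅x⁻¹, y⁆ * (y * y) := by
        simp [commutatorElement_def, mul_assoc]
      simp only [π]
      rw [h1, (show Commute (x * x * ⁅x⁻¹, y⁆) (y * y) from
          hAc _ (A.mul_mem (hTU x hx).1 heA) _ (hTU y hy).1).mul_pow,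
        (show Commute (x * x) ⁅x⁻¹, y⁆ from hAc _ (hTU x hx).1 _ heA).mul_pow]
      have hpow : ⁅x⁻¹, y⁆ ^ 2 ^ g = 1 := by
        rw [show g = (g - 1) + 1 by omega, pow_succ', pow_mul, pow_two, he, one_pow]
      rw [hpow, mul_one, fr.log_mul (hinvol x hx) (hinvol y hy)]
    have hπpar : ∀ (k : MulAut P), ∀ y ∈ T, π (k y) = fr.par k (π y) := by
      intro k y hy
      simp only [π]
      rw [← map_mul, ← map_pow, fr.log_map k (hinvol y hy)]
    have hπact : ∀ (u : fr.M), ∀ y ∈ T, π (fr.aut u y) = ((u : Fˣ) : F) * π y := by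
      intro u y hy
      simp only [π]
      rw [← map_mul, ← map_pow, fr.log_aut u (hinvol y hy)]
    have hπ0 : π y0 ≠ 0 := fun h => hy0A (hker y0 hy0T h)
    have hπonto : ∀ a, ∃ y ∈ T, π y = a := by
      intro a
      rcases eq_or_ne a 0 with rfl | ha
      · refine ⟨1, T.one_mem, ?_⟩
        simp [π, fr.log_one]
      obtain ⟨k, hk, hke⟩ := fr.trans _ a hπ0 ha
      exact ⟨k y0, hTi k hk _ hy0T, (hπpar k y0 hy0T).trans (fr.par_of_eq hke)⟩
    choose s hsT hs using hπonto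
    let β : F → F → F := fun a b => fr.log ⁅s a, s b⁆
    have hwd : ∀ x ∈ T, ∀ y ∈ T, fr.log ⁅x, y⁆ = β (π x) (π y) := by
      have hdiff : ∀ x ∈ T, ∀ y ∈ T, π x = π y → ∃ a ∈ A, x = y * a := by
        intro x hx y hy h
        refine ⟨y⁻¹ * x, hker _ (T.mul_mem (T.inv_mem hy) hx) ?_, by simp⟩
        have h1 := hπadd y hy (y⁻¹ * x) (T.mul_mem (T.inv_mem hy) hx)
        rw [mul_inv_cancel_left, h] at h1
        exact (left_eq_add.1 h1)
      intro x hx y hy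
      obtain ⟨a, ha, hxa⟩ := hdiff x hx _ (hsT (π x)) (hs _).symm
      obtain ⟨b, hb, hyb⟩ := hdiff y hy _ (hsT (π y)) (hs _).symm
      have e1 : ∀ z ∈ T, ⁅a, z⁆ = 1 := fun z hz =>
        commutatorElement_eq_one_iff_mul_comm.2 (hTA z hz a ha)
      have e2 : ∀ z ∈ T, ⁅z, b⁆ = 1 := fun z hz =>
        commutatorElement_eq_one_iff_mul_comm.2 (hTA z hz b hb).symm
      have k1 : ⁅x, y⁆ = ⁅s (π x), y⁆ := by
        conv_lhs => rw [hxa, commutatorElement_mul_left_eq_conj_mul, e1 y hy, mul_one,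
          mul_inv_cancel, one_mul]
      have k2 : ⁅s (π x), y⁆ = ⁅s (π x), s (π y)⁆ := by
        conv_lhs => rw [hyb, commutatorElement_mul_right_eq_mul_conj, e2 _ (hsT _), mul_one,
          mul_assoc, mul_inv_cancel, mul_one]
      show fr.log ⁅x, y⁆ = fr.log ⁅s (π x), s (π y)⁆
      rw [k1, k2]
    have hl : ∀ a b c, β (a + b) c = β a c + β b c := by
      intro a b c
      have h := hwd _ (T.mul_mem (hsT a) (hsT b)) _ (hsT c)
      rw [hπadd _ (hsT a) _ (hsT b), hs, hs, hs] at h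
      rw [← h, commutatorElement_mul_left_eq_conj_mul,
        fr.invol_central hP (hcomm2 _ (hsT b) _ (hsT c)) (s a), mul_inv_cancel_right,
        fr.log_mul (hcomm2 _ (hsT b) _ (hsT c)) (hcomm2 _ (hsT a) _ (hsT c))]
      exact add_comm _ _
    have hr : ∀ a b c, β a (b + c) = β a b + β a c := by
      intro a b c
      have h := hwd _ (hsT a) _ (T.mul_mem (hsT b) (hsT c))
      rw [hπadd _ (hsT b) _ (hsT c), hs, hs, hs] at h
      rw [← h, commutatorElement_mul_right_eq_mul_conj, mul_assoc ⁅s a, s b⁆ (s b),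
        mul_assoc ⁅s a, s b⁆ (s b * ⁅s a, s c⁆) (s b)⁻¹,
        fr.invol_central hP (hcomm2 _ (hsT a) _ (hsT c)) (s b), mul_inv_cancel_right,
        fr.log_mul (hcomm2 _ (hsT a) _ (hsT b)) (hcomm2 _ (hsT a) _ (hsT c))]
    have hsc : ∀ u ∈ fr.M, ∀ a b : F, β ((u : F) * a) ((u : F) * b) = (u : F) * β a b := by
      intro u hu a b
      have h := hwd _ (hTi _ (fr.aut_mem ⟨u, hu⟩) _ (hsT a)) _
        (hTi _ (fr.aut_mem ⟨u, hu⟩) _ (hsT b))
      rw [hπact _ _ (hsT a), hπact _ _ (hsT b), hs, hs, ← map_commutatorElement,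
        fr.log_aut _ (hcomm2 _ (hsT a) _ (hsT b))] at h
      exact h.symm
    have halt : ∀ a, β a a = 0 := fun a => by simp [β, fr.log_one]
    intro x hx y hy
    refine commutatorElement_eq_one_iff_mul_comm.1 ((fr.log_eq_zero (hcomm2 x hx y hy)).1 ?_)
    rw [hwd x hx y hy]
    exact fr.pairing_zero β hl hr hsc halt _ _
  · rw [fr.log_eq_zero (hinvol y hy), ← pow_two, ← pow_mul, ← pow_succ']
    exact h

end main

end Frame

end Cfsg.Agent.LocalEvenD.STwo
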