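import Mathlib
import Cfsg.Agent.LocalEvenD.STwo.ExpFour
import Cfsg.Agent.Lib.RankOne.FieldAut

/-!
Higman's theorem: in a Suzuki 2-group the centre consists of the involutions, and all squares and
commutators are central.
-/

set_option autoImplicit false

namespace Cfsg.Agent.LocalEvenD.STwo

open scoped commutatorElement

variable {P : Type*} [Group P]

namespace Frame

variable {F : Type*} [Field F] (fr : Frame P F)

lemma center_inv : fr.Inv (Subgroup.center P : Set P) := by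
  intro k _ z hz
  rw [SetLike.mem_coe, Subgroup.mem_center_iff] at hz ⊢
  intro g
  have := congrArg k (hz (k.symm g))
  rwa [map_mul, map_mul, MulEquiv.apply_symm_apply] at this

variable [Finite P] [Fintype F] [CharP F 2] (hP : IsPGroup 2 P)
  (hna : ∃ x y : P, x * y ≠ y * x) {u0 : fr.M} (hu0 : u0 ≠ 1)
include fr hP hna hu0

/-- The centre consists of the elements of square `1`. -/
theorem center_sq : ∀ z ∈ Subgroup.center P, z * z = 1 := by
  set Z := Subgroup.center P with hZ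
  have hZn : Z.Normal := inferInstance
  have hZi : fr.Inv (Z : Set P) := fr.center_inv
  have hZc : ∀ a ∈ Z, ∀ b ∈ Z, a * b = b * a := fun a ha b _ =>
    (Subgroup.mem_center_iff.1 ha b).symm
  have h4 : ∀ a ∈ Z, a ^ 4 = 1 := fr.exp_four hP hna hu0 Z hZn hZi hZc
  by_contra hc
  rw [not_forall] at hc
  obtain ⟨z, hz⟩ := hc
  obtain ⟨hzZ, hz2⟩ : z ∈ Z ∧ z * z ≠ 1 := by rwa [Classical.not_imp] at hz
  have hexp : ∀ a ∈ Z, a ^ 2 ^ (1 + 1) = 1 := by norm_num; exact h4
  have hne : ∃ a ∈ Z, a ^ 2 ^ 1 ≠ 1 := ⟨z, hzZ, by rw [pow_one, pow_two]; exact hz2⟩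
  have htop : Z ≠ ⊤ := fun h => by
    obtain ⟨x, y, hxy⟩ := hna
    exact hxy (hZc x (h ▸ Subgroup.mem_top x) y (h ▸ Subgroup.mem_top y))
  obtain ⟨y, hy, hyZ⟩ := exists_upperSub hP Z hZn htop
  obtain ⟨hTc, hTe⟩ := fr.upper_cent_comm hP hZn hZi hZc le_rfl hexp hne
  set T := upperSub Z hZn ⊓ Subgroup.centralizer (Z : Set P) with hT
  have hcent : ∀ x : P, x ∈ Subgroup.centralizer (Z : Set P) := fun x =>
    Subgroup.mem_centralizer_iff.2 fun a ha => (Subgroup.mem_center_iff.1 ha x).symm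
  have hTn : T.Normal := ⟨fun x hx g => Subgroup.mem_inf.2
    ⟨conj_mem_upperSub (Subgroup.mem_inf.1 hx).1 g, hcent _⟩⟩
  have hTi : fr.Inv (T : Set P) := fun k hk x hx => Subgroup.mem_inf.2
    ⟨fr.upperSub_inv hZi k hk x (Subgroup.mem_inf.1 hx).1, hcent _⟩
  have hyT : y ∈ T := Subgroup.mem_inf.2 ⟨hy, hcent y⟩
  refine hTe y hyT hyZ ?_
  have := fr.exp_four hP hna hu0 T hTn hTi hTc y hyT
  norm_num
  exact this

lemma mem_center_iff_sq {z : P} : z ∈ Subgroup.center P ↔ z * z = 1 :=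
  ⟨fr.center_sq hP hna hu0 z,
    fun h => Subgroup.mem_center_iff.2 fun g => fr.invol_central hP h g⟩

/-- Squares and commutators are central. -/
theorem class_two : upperSub (Subgroup.center P) inferInstance = ⊤ := by
  classical
  set Z := Subgroup.center P with hZ
  set Z2 := upperSub Z inferInstance with hZ2
  have hsqZ : ∀ z ∈ Z, z * z = 1 := fr.center_sq hP hna hu0
  have hZmem : ∀ {z : P}, z * z = 1 → z ∈ Z := fun h => (fr.mem_center_iff_sq hP hna hu0).2 h
  have hZcomm : ∀ {z : P}, z ∈ Z → ∀ g, g * z = z * g := fun h g => Subgroup.mem_center_iff.1 h g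
  by_contra htop
  have hZ2n : Z2.Normal := ⟨fun x hx g => conj_mem_upperSub hx g⟩
  have hZ2i : fr.Inv (Z2 : Set P) := fr.upperSub_inv fr.center_inv
  obtain ⟨y0, hy0, hy0Z2⟩ := exists_upperSub hP Z2 hZ2n htop
  -- squares centralise the second centre
  have hsqc : ∀ z ∈ Z2, ∀ x : P, ⁅z, x * x⁆ = 1 := by
    intro z hz x
    rw [commutatorElement_mul_right_eq_mul_conj, mul_assoc ⁅z, x⁆ x, mul_assoc ⁅z, x⁆,
      hZcomm (hz.2 x) x, mul_inv_cancel_right]
    exact hsqZ _ (hz.2 x)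
  set A := Z2 ⊓ Subgroup.centralizer (Z2 : Set P) with hA
  have hAn : A.Normal := ⟨fun x hx g => Subgroup.mem_inf.2
    ⟨conj_mem_upperSub (Subgroup.mem_inf.1 hx).1 g, Subgroup.mem_centralizer_iff.2 fun c hc => by
      have h1 := Subgroup.mem_centralizer_iff.1 (Subgroup.mem_inf.1 hx).2 _
        (hZ2n.conj_mem c hc g⁻¹)
      rw [inv_inv] at h1
      calc c * (g * x * g⁻¹) = g * ((g⁻¹ * c * g) * x) * g⁻¹ := by group
        _ = g * (x * (g⁻¹ * c * g)) * g⁻¹ := by rw [h1]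
        _ = (g * x * g⁻¹) * c := by group⟩⟩
  have hAi : fr.Inv (A : Set P) := fun k hk x hx => Subgroup.mem_inf.2
    ⟨hZ2i k hk x (Subgroup.mem_inf.1 hx).1, fr.centralizer_inv hZ2i k hk x (Subgroup.mem_inf.1 hx).2⟩
  have hAc : ∀ a ∈ A, ∀ b ∈ A, a * b = b * a := fun a ha b hb =>
    Subgroup.mem_centralizer_iff.1 (Subgroup.mem_inf.1 hb).2 a (Subgroup.mem_inf.1 ha).1
  have hZA : Z ≤ A := fun z hz => Subgroup.mem_inf.2 ⟨le_upperSub _ _ hz,
    Subgroup.mem_centralizer_iff.2 fun c _ => hZcomm hz c⟩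
  have hsqA : ∀ x : P, x * x ∈ Z2 → x * x ∈ A := fun x hx => Subgroup.mem_inf.2
    ⟨hx, Subgroup.mem_centralizer_iff.2 fun c hc =>
      commutatorElement_eq_one_iff_mul_comm.1 (hsqc c hc x)⟩
  have hcommA : ∀ y ∈ upperSub Z2 hZ2n, ∀ g, ⁅y, g⁆ ∈ A := fun y hy g => Subgroup.mem_inf.2
    ⟨hy.2 g, Subgroup.mem_centralizer_iff.2 fun c hc => by
      have e : ⁅y, g⁆ = (y * y) * ((y⁻¹ * g) * (y⁻¹ * g)) * (g⁻¹ * g⁻¹) := by
        simp [commutatorElement_def, mul_assoc]
      have h1 : ∀ x : P, x * x ∈ Subgroup.centralizer (Z2 : Set P) := fun x =>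
        Subgroup.mem_centralizer_iff.2 fun d hd =>
          commutatorElement_eq_one_iff_mul_comm.1 (hsqc d hd x)
      exact Subgroup.mem_centralizer_iff.1
        (e ▸ Subgroup.mul_mem _ (Subgroup.mul_mem _ (h1 _) (h1 _)) (h1 _)) c hc⟩
  have hy0M : y0 ∈ upperSub A hAn := ⟨hsqA y0 hy0.1, hcommA y0 hy0⟩
  have h4 : ∀ a ∈ A, a ^ 4 = 1 := fr.exp_four hP hna hu0 A hAn hAi hAc
  have hne : ∃ a ∈ A, a ^ 2 ^ 1 ≠ 1 := by
    by_contra hc
    have hAZ : ∀ a ∈ A, a ∈ Z := fun a ha => hZmem (by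
      by_contra h
      exact hc ⟨a, ha, by rwa [pow_one, pow_two]⟩)
    exact hy0Z2 ⟨hAZ _ hy0M.1, fun g => hAZ _ (hy0M.2 g)⟩
  have hexp : ∀ a ∈ A, a ^ 2 ^ (1 + 1) = 1 := by norm_num; exact h4
  have hT : upperSub A hAn ⊓ Subgroup.centralizer (A : Set P) ≤ A := by
    obtain ⟨hTc, hTe⟩ := fr.upper_cent_comm hP hAn hAi hAc le_rfl hexp hne
    intro y hy
    by_contra hyA
    set T := upperSub A hAn ⊓ Subgroup.centralizer (A : Set P) with hT
    have hTn : T.Normal := ⟨fun x hx g => Subgroup.mem_inf.2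
      ⟨conj_mem_upperSub (Subgroup.mem_inf.1 hx).1 g, Subgroup.mem_centralizer_iff.2 fun c hc => by
        have h1 := Subgroup.mem_centralizer_iff.1 (Subgroup.mem_inf.1 hx).2 _
          (hAn.conj_mem c hc g⁻¹)
        rw [inv_inv] at h1
        calc c * (g * x * g⁻¹) = g * ((g⁻¹ * c * g) * x) * g⁻¹ := by group
          _ = g * (x * (g⁻¹ * c * g)) * g⁻¹ := by rw [h1]
          _ = (g * x * g⁻¹) * c := by group⟩⟩
    have hTi : fr.Inv (T : Set P) := fun k hk x hx => Subgroup.mem_inf.2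
      ⟨fr.upperSub_inv hAi k hk x (Subgroup.mem_inf.1 hx).1,
        fr.centralizer_inv hAi k hk x (Subgroup.mem_inf.1 hx).2⟩
    have := fr.exp_four hP hna hu0 T hTn hTi hTc y hy
    exact hTe y hy hyA (by norm_num; exact this)
  have hZ2A : Z2 ≤ A := fun z hz => hT (Subgroup.mem_inf.2 ⟨⟨hZA hz.1, fun g => hZA (hz.2 g)⟩,
    Subgroup.mem_centralizer_iff.2 fun a ha =>
      (Subgroup.mem_centralizer_iff.1 (Subgroup.mem_inf.1 ha).2 z hz).symm⟩)
  set M := upperSub A hAn with hM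
  have hMi : fr.Inv (M : Set P) := fr.upperSub_inv hAi
  have hAM : A ≤ M := le_upperSub A hAn
  -- commutators with `A` are central
  have hcc : ∀ (y : P), ∀ c ∈ A, ⁅y, c⁆ * ⁅y, c⁆ = 1 := fun y c hc => by
    rw [← commutatorElement_inv c y, ← mul_inv_rev, hsqZ _ ((Subgroup.mem_inf.1 hc).1.2 y), inv_one]
  have hsqinv : ∀ c ∈ A, c * c * (c * c) = 1 := fun c hc => by
    simpa [pow_succ, mul_assoc] using h4 c hc
  choose cs hcsA hcs using fr.top_onto hP hAi hexp hne
  have hcs2 : ∀ e, cs e * cs e = fr.emb e := fun e => by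
    have := hcs e; rwa [pow_one, pow_two] at this
  have hmulr : ∀ (y : P), ∀ a ∈ A, ∀ b ∈ A, ⁅y, a * b⁆ = ⁅y, a⁆ * ⁅y, b⁆ := by
    intro y a _ b hb
    rw [commutatorElement_mul_right_eq_mul_conj, mul_assoc ⁅y, a⁆ a, mul_assoc ⁅y, a⁆,
      fr.invol_central hP (hcc y b hb) a, mul_inv_cancel_right]
  have hwd : ∀ (y : P), ∀ c ∈ A, fr.log ⁅y, c⁆ = fr.log ⁅y, cs (fr.log (c * c))⁆ := by
    intro y c hc
    set e := fr.log (c * c) with he
    have hd : (c * (cs e)⁻¹) * (c * (cs e)⁻¹) = 1 := by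
      rw [show c * (cs e)⁻¹ * (c * (cs e)⁻¹) = c * ((cs e)⁻¹ * c) * (cs e)⁻¹ by group,
        hAc _ (A.inv_mem (hcsA e)) _ hc,
        show c * (c * (cs e)⁻¹) * (cs e)⁻¹ = (c * c) * (cs e * cs e)⁻¹ by group, hcs2, he,
        fr.emb_log (hsqinv c hc), mul_inv_cancel]
    have hce : c = c * (cs e)⁻¹ * cs e := by rw [inv_mul_cancel_right]
    rw [hce, hmulr y _ (A.mul_mem hc (A.inv_mem (hcsA e))) _ (hcsA e),
      commutatorElement_eq_one_iff_mul_comm.2 (fr.invol_central hP hd y), one_mul]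
  let G0 : P → F → F := fun y e => fr.log ⁅y, cs e⁆
  have hG0add : ∀ y a b, G0 y (a + b) = G0 y a + G0 y b := by
    intro y a b
    have h := hwd y _ (A.mul_mem (hcsA a) (hcsA b))
    rw [hmulr y _ (hcsA a) _ (hcsA b), fr.log_mul (hcc y _ (hcsA a)) (hcc y _ (hcsA b))] at h
    have h2 : cs a * cs b * (cs a * cs b) = fr.emb (a + b) := by
      rw [fr.emb_add, ← hcs2 a, ← hcs2 b,
        show cs a * cs b * (cs a * cs b) = cs a * (cs b * cs a) * cs b by group,
        hAc _ (hcsA b) _ (hcsA a)]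
      group
    rw [h2, fr.log_emb] at h
    exact h.symm
  let Γ : P → F →+ F := fun y => AddMonoidHom.mk' (G0 y) (hG0add y)
  have hΓ : ∀ (y : P), ∀ c ∈ A, Γ y (fr.log (c * c)) = fr.log ⁅y, c⁆ := fun y c hc => (hwd y c hc).symm
  have hΓmul : ∀ x y, Γ (x * y) = Γ x + Γ y := by
    intro x y
    ext e
    show fr.log ⁅x * y, cs e⁆ = fr.log ⁅x, cs e⁆ + fr.log ⁅y, cs e⁆
    rw [commutatorElement_mul_left_eq_conj_mul,
      fr.invol_central hP (hcc y _ (hcsA e)) x, mul_inv_cancel_right,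
      fr.log_mul (hcc y _ (hcsA e)) (hcc x _ (hcsA e))]
    exact add_comm _ _
  have hΓA : ∀ y ∈ A, Γ y = 0 := by
    intro y hy
    ext e
    show fr.log ⁅y, cs e⁆ = 0
    rw [commutatorElement_eq_one_iff_mul_comm.2 (hAc y hy _ (hcsA e)), fr.log_one]
  have hΓact : ∀ (u : fr.M) y e,
      Γ (fr.aut u y) (((u : Fˣ) : F) * e) = ((u : Fˣ) : F) * Γ y e := by
    intro u y e
    have h := hΓ (fr.aut u y) _ (hAi _ (fr.aut_mem u) _ (hcsA e))
    rw [← map_mul, hcs2, fr.aut_emb, fr.log_emb, ← map_commutatorElement,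
      fr.log_aut u (hcc y _ (hcsA e))] at h
    exact h
  -- coefficients
  have : Finite (F ≃+* F) :=
    Finite.of_injective (fun τ : F ≃+* F => (τ : F → F)) DFunLike.coe_injective
  let : Fintype (F ≃+* F) := Fintype.ofFinite _
  let eA : ((F ≃+* F) → F) ≃+ (F →+ F) := AddEquiv.ofBijective RankOne.autSum
    ⟨RankOne.autSum_injective, RankOne.autSum_surjective⟩
  let co : (F ≃+* F) → P → F := fun σ y => eA.symm (Γ y) σ
  have hco : ∀ y e, Γ y e = ∑ σ : F ≃+* F, co σ y * σ e := by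
    intro y e
    conv_lhs => rw [← eA.apply_symm_apply (Γ y)]
    exact RankOne.autSum_apply _ _
  have hcomul : ∀ σ x y, co σ (x * y) = co σ x + co σ y := fun σ x y => by
    simp only [co, hΓmul, map_add, Pi.add_apply]
  have hcoA : ∀ σ, ∀ y ∈ A, co σ y = 0 := fun σ y hy => by
    simp only [co, hΓA y hy, map_zero, Pi.zero_apply]
  have hcoact : ∀ σ (u : fr.M) y,
      co σ (fr.aut u y) = ((u : Fˣ) : F) / σ ((u : Fˣ) : F) * co σ y := by
    intro σ u' y
    obtain ⟨u, hu'⟩ : ∃ u, u = (u' : Fˣ) := ⟨_, rfl⟩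
    rw [← hu']
    have h : eA (fun τ => (u : F) / τ (u : F) * co τ y) = Γ (fr.aut u' y) := by
      ext e
      show RankOne.autSum _ e = _
      rw [RankOne.autSum_apply]
      have h1 := hΓact u' y ((u⁻¹ : Fˣ) * e)
      rw [← hu'] at h1
      rw [← mul_assoc, ← Units.val_mul, mul_inv_cancel, Units.val_one, one_mul] at h1
      rw [h1, hco, Finset.mul_sum]
      refine Finset.sum_congr rfl fun τ _ => ?_
      rw [map_mul, Units.val_inv_eq_inv_val, map_inv₀]
      have : τ (u : F) ≠ 0 := by simp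
      field_simp
    have := congrFun (congrArg eA.symm h) σ
    rw [eA.symm_apply_apply] at this
    exact this.symm
  -- a minimal invariant subgroup over `A`
  have hy0A : y0 ∉ A := fun h => hy0Z2 (Subgroup.mem_inf.1 h).1
  obtain ⟨U, ⟨hAU, hUM, hUi⟩, hUmin⟩ := (wellFounded_lt (α := Subgroup P)).has_min
    {U | A < U ∧ U ≤ M ∧ fr.InvM (U : Set P)}
    ⟨M, lt_of_le_not_ge hAM fun h => hy0A (h hy0M), le_rfl, hMi.invM⟩
  have hmin : ∀ H : Subgroup P, A ≤ H → H ≤ U → fr.InvM (H : Set P) → H ≠ U → H = A := by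
    intro H h1 h2 h3 h4
    by_contra hne'
    exact hUmin H ⟨lt_of_le_of_ne h1 (Ne.symm hne'), h2.trans hUM, h3⟩ (lt_of_le_of_ne h2 h4)
  obtain ⟨y1, hy1U, hy1A⟩ := SetLike.exists_of_lt hAU
  have hinj : ∀ σ, (∃ y ∈ U, co σ y ≠ 0) → ∀ y ∈ U, co σ y = 0 → y ∈ A := by
    intro σ hσ
    let Kσ : Subgroup P :=
      { carrier := {y | y ∈ U ∧ co σ y = 0}
        one_mem' := ⟨U.one_mem, hcoA σ 1 A.one_mem⟩
        mul_mem' := fun {x y} hx hy =>
          ⟨U.mul_mem hx.1 hy.1, by rw [hcomul, hx.2, hy.2, add_zero]⟩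
        inv_mem' := fun {x} hx => ⟨U.inv_mem hx.1, by
          have := hcomul σ x x⁻¹
          rwa [mul_inv_cancel, hcoA σ 1 A.one_mem, hx.2, zero_add, eq_comm] at this⟩ }
    have hK : Kσ = A := hmin Kσ (fun a ha => ⟨hAU.le ha, hcoA σ a ha⟩) (fun y hy => hy.1)
      (fun u y hy => ⟨hUi u y hy.1, by rw [hcoact, hy.2, mul_zero]⟩) (fun h => by
        obtain ⟨y, hy, hy'⟩ := hσ
        rw [← h] at hy
        exact hy' hy.2)
    intro y hy h0
    rw [← hK]
    exact ⟨hy, h0⟩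
  have hexσ : ∃ σ, ∃ y ∈ U, co σ y ≠ 0 := by
    by_contra hc
    have hc' : ∀ σ, ∀ y ∈ U, co σ y = 0 := fun σ y hy => by
      by_contra h
      exact hc ⟨σ, y, hy, h⟩
    refine hy1A (hT (Subgroup.mem_inf.2 ⟨hUM hy1U, Subgroup.mem_centralizer_iff.2 fun c hc2 => ?_⟩))
    refine (commutatorElement_eq_one_iff_mul_comm.1
      ((fr.log_eq_zero (hcc y1 c hc2)).1 ?_)).symm
    rw [← hΓ y1 c hc2, hco]
    exact Finset.sum_eq_zero fun σ _ => by rw [hc' σ y1 hy1U, zero_mul]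
  obtain ⟨σ, hσ⟩ := hexσ
  have hfix : ∀ τ, (∃ y ∈ U, co τ y ≠ 0) → ∀ u : Fˣ, τ (u : F) = u → u = 1 := by
    intro τ hτ u' hu'
    by_contra hu1
    obtain ⟨n, hn, hn1⟩ := fr.scalars.meet u' hu1
    obtain ⟨u, hue⟩ : ∃ u : fr.M, (u : Fˣ) = u' ^ n := ⟨⟨_, hn⟩, rfl⟩
    have hune : u ≠ 1 := fun h => hn1 (by rw [← hue, h, OneMemClass.coe_one])
    have hu : τ ((u : Fˣ) : F) = ((u : Fˣ) : F) := by
      rw [hue, Units.val_pow_eq_pow_val, map_pow, hu']
    refine hy1A (fr.mem_of_coset_fixed hP hune hAi.invM ?_)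
    refine hinj τ hτ _ (U.mul_mem (U.inv_mem hy1U) (hUi u y1 hy1U)) ?_
    have h1 := hcomul τ y1 (y1⁻¹ * fr.aut u y1)
    rw [mul_inv_cancel_left, hcoact, hu, div_self (Units.ne_zero _), one_mul] at h1
    exact left_eq_add.1 h1
  have hρ : ∀ τ, (∃ y ∈ U, co τ y ≠ 0) → ∀ w ∈ fr.M,
      ∃ u : fr.M, ((u : Fˣ) : F) / τ ((u : Fˣ) : F) = (w : F) := by
    intro τ hτ w hw
    let ρ : fr.M → fr.M := fun u =>
      ⟨(u : Fˣ) / Units.map (τ : F →* F) u, fr.M.div_mem u.2 (fr.scalars.auto τ _ u.2)⟩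
    have hρinj : Function.Injective ρ := by
      intro u v h
      have h1 : (u : Fˣ) / Units.map (τ : F →* F) u = (v : Fˣ) / Units.map (τ : F →* F) v :=
        congrArg Subtype.val h
      rw [div_eq_div_iff_mul_eq_mul] at h1
      have h2 := congrArg Units.val h1
      simp only [Units.val_mul, Units.coe_map, MonoidHom.coe_coe] at h2
      have h' : τ (((v : Fˣ) / u : Fˣ) : F) = (((v : Fˣ) / u : Fˣ) : F) := by
        rw [Units.val_div_eq_div_val, map_div₀, div_eq_div_iff (by simp) (by simp)]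
        linear_combination h2
      exact Subtype.ext (div_eq_one.1 (hfix τ hτ _ h')).symm
    obtain ⟨u, hu⟩ := (Finite.injective_iff_surjective.1 hρinj) ⟨w, hw⟩
    refine ⟨u, ?_⟩
    have h3 : (u : Fˣ) / Units.map (τ : F →* F) u = w := congrArg Subtype.val hu
    have h2 := congrArg Units.val h3
    simpa [Units.val_div_eq_div_val] using h2
  have honto : ∀ τ, (∃ y ∈ U, co τ y ≠ 0) → ∀ a : F, ∃ y ∈ U, co τ y = a := by
    intro τ hτ a
    have hρτ := hρ τ hτ
    obtain ⟨y, hy, hy'⟩ := hτ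
    let S : AddSubgroup F :=
      { carrier := {a | ∃ y ∈ U, co τ y = a}
        zero_mem' := ⟨1, U.one_mem, hcoA τ 1 A.one_mem⟩
        add_mem' := by
          rintro _ _ ⟨x, hx, rfl⟩ ⟨x', hx', rfl⟩
          exact ⟨x * x', U.mul_mem hx hx', hcomul τ x x'⟩
        neg_mem' := by
          rintro _ ⟨x, hx, rfl⟩
          exact ⟨x, hx, (CharTwo.neg_eq _).symm⟩ }
    exact fr.eq_top_of_scalar S (fun w hw b hb => by
      obtain ⟨x, hx, rfl⟩ := hb
      obtain ⟨u, hu⟩ := hρτ w hw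
      exact ⟨fr.aut u x, hUi u x hx, by rw [hcoact, hu]⟩) ⟨y, hy, rfl⟩ hy' a
  have hne1 : ∀ τ, (∃ y ∈ U, co τ y ≠ 0) → ∃ x, τ x ≠ x := by
    intro τ hτ
    by_contra hc
    push Not at hc
    exact hu0 (Subtype.ext (hfix τ hτ u0 (hc _)))
  have huniq : ∀ τ, (∃ y ∈ U, co τ y ≠ 0) → τ = σ := by
    intro τ hτ
    choose sec hsecU hsec using honto σ hσ
    have hwd' : ∀ x ∈ U, ∀ y ∈ U, co σ x = co σ y → co τ x = co τ y := by
      intro x hx y hy h
      have h1 := hcomul σ y (y⁻¹ * x)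
      rw [mul_inv_cancel_left, h] at h1
      have h2 := hinj σ hσ _ (U.mul_mem (U.inv_mem hy) hx) (left_eq_add.1 h1)
      have h3 := hcomul τ y (y⁻¹ * x)
      rwa [mul_inv_cancel_left, hcoA τ _ h2, add_zero] at h3
    let h : F → F := fun a => co τ (sec a)
    have hadd : ∀ a b, h (a + b) = h a + h b := by
      intro a b
      rw [← hcomul τ (sec a) (sec b)]
      exact hwd' _ (hsecU _) _ (U.mul_mem (hsecU a) (hsecU b))
        (by rw [hsec, hcomul σ, hsec, hsec])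
    have hscale : ∀ (u : fr.M) a, h (((u : Fˣ) : F) / σ ((u : Fˣ) : F) * a) =
        ((u : Fˣ) : F) / τ ((u : Fˣ) : F) * h a := by
      intro u a
      rw [← hcoact τ u (sec a)]
      exact hwd' _ (hsecU _) _ (hUi u _ (hsecU a)) (by rw [hsec, hcoact σ, hsec])
    have h1 : h 1 ≠ 0 := fun h0 => by
      have hA1 := hinj τ hτ _ (hsecU 1) h0
      have := hcoA σ _ hA1
      rw [hsec] at this
      exact one_ne_zero this
    have h0 : h 0 = 0 := by
      have := hadd 0 0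
      rw [add_zero] at this
      exact left_eq_add.1 this
    have hmulM : ∀ w ∈ fr.M, ∀ b, h ((w : F) * b) * h 1 = h (w : F) * h b := by
      intro w hw b
      obtain ⟨u, hu⟩ := hρ σ hσ w hw
      have e1 := hscale u 1
      rw [mul_one] at e1
      rw [← hu, hscale u b, e1]
      ring
    have hmul : ∀ a b, h (a * b) * h 1 = h a * h b := by
      intro a b
      have : ∀ x ∈ AddSubgroup.closure ((fun u : Fˣ => (u : F)) '' (fr.M : Set Fˣ)),
          h (x * b) * h 1 = h x * h b := by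
        intro x hx
        induction hx using AddSubgroup.closure_induction with
        | mem c hc => obtain ⟨w, hw, rfl⟩ := hc; exact hmulM w hw b
        | zero => rw [zero_mul, h0, zero_mul, zero_mul]
        | add c d _ _ e1 e2 => rw [add_mul, hadd, hadd, add_mul, e1, e2, add_mul]
        | neg c _ e1 => rwa [CharTwo.neg_eq]
      exact this a (fr.scalars.span ▸ AddSubgroup.mem_top _)
    let r₀ : F →+* F :=
      { toFun := fun a => h a / h 1
        map_one' := div_self h1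
        map_zero' := by rw [h0, zero_div]
        map_add' := fun a b => by rw [hadd, add_div]
        map_mul' := fun a b => by
          rw [div_mul_div_comm, div_eq_div_iff h1 (mul_ne_zero h1 h1), ← hmul a b]
          ring }
    let r : F ≃+* F := RingEquiv.ofBijective r₀ (Finite.injective_iff_bijective.1 r₀.injective)
    refine fr.scalars.prods r σ τ (hne1 σ hσ) (hne1 τ hτ) fun w hw => ?_
    have e1 := hscale ⟨w, hw⟩ 1
    rw [mul_one] at e1
    have e2 : r ((w : F) / σ (w : F)) = (w : F) / τ (w : F) := by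
      show h ((w : F) / σ (w : F)) / h 1 = _
      rw [e1, mul_div_cancel_right₀ _ h1]
    rw [map_div₀, div_eq_div_iff (by simp) (by simp)] at e2
    exact e2
  have hmono : ∀ y ∈ U, ∀ e, Γ y e = co σ y * σ e := by
    intro y hy e
    rw [hco]
    refine Finset.sum_eq_single σ (fun τ _ hτ => ?_) fun h => absurd (Finset.mem_univ σ) h
    by_contra h
    exact hτ (huniq τ ⟨y, hy, fun h0 => h (by rw [h0, zero_mul])⟩)
  have hUsq : ∀ y ∈ U, y * y ∈ Z := by
    intro y hy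
    by_cases hyA : y ∈ A
    · exact (Subgroup.mem_inf.1 hyA).1.1
    have hyy := (hUM hy).1
    have h1 := hΓ y _ hyy
    rw [commutatorElement_eq_one_iff_mul_comm.2 (mul_assoc y y y).symm, fr.log_one,
      hmono y hy] at h1
    have h2 := (mul_eq_zero.1 h1).resolve_left fun h => hyA (hinj σ hσ y hy h)
    rw [map_eq_zero] at h2
    exact hZmem ((fr.log_eq_zero (hsqinv _ hyy)).1 h2)
  let W : P → P → F := fun g y => fr.log (⁅g, y⁆ * ⁅g, y⁆)
  have hwA : ∀ (g : P), ∀ y ∈ U, ⁅g, y⁆ ∈ A := fun g y hy => by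
    rw [← commutatorElement_inv]; exact A.inv_mem ((hUM hy).2 g)
  have hWfix : ∀ g, ∀ y ∈ U, W g y = co σ y * σ (W g y) := by
    intro g y hy
    have hw := hwA g y hy
    have h1 : ⁅g, y * y⁆ = 1 :=
      commutatorElement_eq_one_iff_mul_comm.2 (hZcomm (hUsq y hy) g)
    have h2 : ⁅g, y * y⁆ = ⁅y, ⁅g, y⁆⁆ * (⁅g, y⁆ * ⁅g, y⁆) := by
      rw [commutatorElement_mul_right_eq_mul_conj, mul_assoc ⁅g, y⁆ y,
        mul_assoc ⁅g, y⁆ (y * ⁅g, y⁆), hAc _ hw _ (hAn.conj_mem _ hw y)]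
      simp only [commutatorElement_def]; group
    rw [h1] at h2
    have h3 := congrArg fr.log h2
    rw [fr.log_one, fr.log_mul (hcc y _ hw) (hsqinv _ hw), ← hΓ y _ hw, hmono y hy] at h3
    exact (CharTwo.add_eq_zero.1 h3.symm).symm
  have hsqmul : ∀ a ∈ A, ∀ b ∈ A, (a * b) * (a * b) = (a * a) * (b * b) := fun a ha b hb => by
    rw [show a * b * (a * b) = a * (b * a) * b by group, hAc b hb a ha]; group
  have hWmul : ∀ g, ∀ x ∈ U, ∀ y ∈ U, W g (x * y) = W g x + W g y := by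
    intro g x hx y hy
    have hw := hwA g x hx
    have hw' := hwA g y hy
    have e : ⁅g, x * y⁆ = ⁅g, x⁆ * (⁅x, ⁅g, y⁆⁆ * ⁅g, y⁆) := by
      simp [commutatorElement_def, mul_assoc]
    have hxA : ⁅x, ⁅g, y⁆⁆ ∈ A := hZA (hZmem (hcc x _ hw'))
    simp only [W]
    rw [e, hsqmul _ hw _ (A.mul_mem hxA hw'), hsqmul _ hxA _ hw', hcc x _ hw', one_mul,
      fr.log_mul (hsqinv _ hw) (hsqinv _ hw')]
  have hWA : ∀ g, ∀ a ∈ A, W g a = 0 := fun g a ha => by
    simp only [W]; rw [hcc g a ha, fr.log_one]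
  have hWmull : ∀ g g', ∀ y ∈ U, W (g * g') y = W g y + W g' y := by
    intro g g' y hy
    have hw := hwA g y hy
    have hw' := hwA g' y hy
    have e : ⁅g * g', y⁆ = ⁅g, ⁅g', y⁆⁆ * ⁅g', y⁆ * ⁅g, y⁆ := by
      simp [commutatorElement_def, mul_assoc]
    have hgA : ⁅g, ⁅g', y⁆⁆ ∈ A := hZA (hZmem (hcc g _ hw'))
    simp only [W]
    rw [e, hsqmul _ (A.mul_mem hgA hw') _ hw, hsqmul _ hgA _ hw', hcc g _ hw', one_mul,
      fr.log_mul (hsqinv _ hw') (hsqinv _ hw)]
    exact add_comm _ _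
  have hWact : ∀ (u : fr.M) g, ∀ y ∈ U,
      W (fr.aut u g) (fr.aut u y) = ((u : Fˣ) : F) * W g y := by
    intro u g y hy
    simp only [W]
    rw [← map_commutatorElement, ← map_mul, fr.log_aut u (hsqinv _ (hwA g y hy))]
  let H : Subgroup P :=
    { carrier := {g | ∀ y ∈ U, W g y = 0}
      one_mem' := fun y _ => by simp [W, fr.log_one]
      mul_mem' := fun {a b} ha hb y hy => by rw [hWmull a b y hy, ha y hy, hb y hy, add_zero]
      inv_mem' := fun {a} ha y hy => by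
        have := hWmull a a⁻¹ y hy
        rw [ha y hy, zero_add, mul_inv_cancel] at this
        simpa [W, fr.log_one] using this.symm }
  have hHi : fr.InvM (H : Set P) := by
    intro u g hg y hy
    obtain ⟨y', hy', rfl⟩ := fr.exists_aut_preimage hUi u hy
    rw [hWact u g y' hy', hg y' hy', mul_zero]
  have hnz : ∀ g, g ∉ H → ∀ y ∈ U, y ∉ A → W g y ≠ 0 := by
    intro g hg h hh hhA h0
    obtain ⟨y, hy, hWy⟩ : ∃ y ∈ U, W g y ≠ 0 := by
      by_contra hc
      exact hg fun y hy => by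
        by_contra h'
        exact hc ⟨y, hy, h'⟩
    have e1 := hWfix g y hy
    have e2 := hWfix g (y * h) (U.mul_mem hy hh)
    rw [hWmul g y hy h hh, h0, add_zero, hcomul, add_mul, ← e1] at e2
    rcases mul_eq_zero.1 (left_eq_add.1 e2) with h' | h'
    · exact hhA (hinj σ hσ h hh h')
    · exact hWy ((map_eq_zero σ).1 h')
  have hle : (⊤ : Subgroup P) ≤ H :=
    fr.le_of_index_two hP hHi (fun _ _ _ => trivial) hu0 fun g _ g' _ hg hg' y hy => by
      by_cases hyA : y ∈ A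
      · exact hWA _ y hyA
      have h1 := hWmull g (g⁻¹ * g') y hy
      rw [mul_inv_cancel_left] at h1
      have hv := hnz g hg y hy hyA
      have hv' := hnz g' hg' y hy hyA
      have hco0 : co σ y ≠ 0 := fun h => hyA (hinj σ hσ y hy h)
      have heq : σ (W g' y / W g y) = W g' y / W g y := by
        have e1 := hWfix g y hy
        have e2 := hWfix g' y hy
        rw [map_div₀]
        conv_rhs => rw [e1, e2, mul_div_mul_left _ _ hco0]
      have := hfix σ hσ (Units.mk0 _ (div_ne_zero hv' hv)) (by simpa using heq)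
      have h2 : W g' y = W g y := by
        have := congrArg Units.val this
        rwa [Units.val_mk0, Units.val_one, div_eq_one_iff_eq hv] at this
      rw [h2] at h1
      exact left_eq_add.1 h1
  refine hy1A (hZ2A ⟨hUsq y1 hy1U, fun g => ?_⟩)
  rw [← commutatorElement_inv]
  refine Z.inv_mem (hZmem ((fr.log_eq_zero (hsqinv _ (hwA g y1 hy1U))).1 ?_))
  exact hle (Subgroup.mem_top g) y1 hy1U

end Frame

end Cfsg.Agent.LocalEvenD.STwo
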