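import Mathlib

/-!
Sums of two powers of two modulo a large divisor `m` of `2 ^ n - 1`, the cofactor dividing `n`.
-/

set_option autoImplicit false

namespace Cfsg.Agent.LocalEvenD.STwo.Num

lemma sum_eq_aux {a b c d : ℕ} (hab : a ≤ b) (hcd : c ≤ d)
    (h : 2 ^ a + 2 ^ b = 2 ^ c + 2 ^ d) : a = c ∧ b = d := by
  have hbd : b = d := by
    rcases lt_trichotomy b d with hlt | heq | hgt
    · exfalso
      have h1 : 2 ^ a ≤ 2 ^ b := Nat.pow_le_pow_right (by norm_num) hab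
      have h2 : 2 * 2 ^ b ≤ 2 ^ d := by
        rw [← pow_succ']; exact Nat.pow_le_pow_right (by norm_num) hlt
      have := Nat.two_pow_pos c
      omega
    · exact heq
    · exfalso
      have h1 : 2 ^ c ≤ 2 ^ d := Nat.pow_le_pow_right (by norm_num) hcd
      have h2 : 2 * 2 ^ d ≤ 2 ^ b := by
        rw [← pow_succ']; exact Nat.pow_le_pow_right (by norm_num) hgt
      have := Nat.two_pow_pos a
      omega
  subst hbd
  refine ⟨Nat.pow_right_injective (le_refl 2) (by omega : 2 ^ a = 2 ^ c), rfl⟩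

lemma sum_eq {a b c d : ℕ} (h : 2 ^ a + 2 ^ b = 2 ^ c + 2 ^ d) :
    (a = c ∧ b = d) ∨ (a = d ∧ b = c) := by
  rcases le_total a b with hab | hab <;> rcases le_total c d with hcd | hcd
  · exact Or.inl (sum_eq_aux hab hcd h)
  · exact Or.inr (sum_eq_aux hab hcd (by omega))
  · obtain ⟨h1, h2⟩ := sum_eq_aux hab hcd (by omega)
    exact Or.inr ⟨h2, h1⟩
  · obtain ⟨h1, h2⟩ := sum_eq_aux hab hcd (by omega)
    exact Or.inl ⟨h2, h1⟩

/-- The cofactor is small, up to two cases. -/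
lemma small_or {n e : ℕ} (hn : 2 ≤ n) (hd : e ∣ 2 ^ n - 1) (hen : e ∣ n) :
    e = 1 ∨ e ≤ 2 ^ (n / 5) ∨ (n = 6 ∧ e = 3) ∨ (n = 18 ∧ e = 9) := by
  obtain ⟨k, rfl⟩ := hen
  have hodd : e % 2 = 1 := by
    by_contra h0
    have h2 : 2 ∣ 2 ^ (e * k) - 1 := (Nat.dvd_of_mod_eq_zero (by omega : e % 2 = 0)).trans hd
    have : 2 ∣ 2 ^ (e * k) := dvd_pow_self 2 (by omega)
    have := Nat.two_pow_pos (e * k)
    omega
  by_cases h11 : 11 ≤ e
  · right; left
    have key : ∀ f : ℕ, 25 ≤ f → f ≤ 2 ^ (f / 5) := fun f hf => by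
      have h : ∀ j, 5 ≤ j → 5 * j + 4 ≤ 2 ^ j := by
        intro j hj
        induction j, hj using Nat.le_induction with
        | base => norm_num
        | succ j hj ih => rw [pow_succ]; omega
      exact (show f ≤ 5 * (f / 5) + 4 by omega).trans (h _ (by omega))
    rcases Nat.lt_or_ge k 2 with hk | hk
    · obtain rfl : k = 1 := by
        rcases Nat.eq_zero_or_pos k with rfl | h
        · simp at hn
        · omega
      rw [mul_one] at hd ⊢
      by_cases h25 : 25 ≤ e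
      · exact key e h25
      exfalso
      revert hd hodd
      interval_cases e <;> norm_num
    · have h : ∀ j, 4 ≤ j → 5 * j + 4 ≤ 2 * 2 ^ j := by
        intro j hj
        induction j, hj using Nat.le_induction with
        | base => norm_num
        | succ j hj ih => rw [pow_succ]; omega
      have h2 : e * 2 ≤ e * k := Nat.mul_le_mul_left e hk
      have := h (e * 2 / 5) (by omega)
      calc e ≤ 2 ^ (e * 2 / 5) := by omega
        _ ≤ _ := Nat.pow_le_pow_right (by norm_num) (Nat.div_le_div_right h2)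
  have hlog : ∀ L, 5 * L ≤ e * k → e ≤ 2 ^ L → e ≤ 2 ^ (e * k / 5) := fun L hL h =>
    h.trans (Nat.pow_le_pow_right (by norm_num) (by omega))
  interval_cases e
  all_goals first
    | omega
    | exact Or.inl rfl
    | skip
  · -- e = 3
    by_cases h4 : 4 ≤ k
    · exact Or.inr (Or.inl (hlog 2 (by omega) (by norm_num)))
    revert hd hn
    interval_cases k <;> norm_num
  · by_cases h3 : 3 ≤ k
    · exact Or.inr (Or.inl (hlog 3 (by omega) (by norm_num)))
    revert hd hn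
    interval_cases k <;> norm_num
  · by_cases h3 : 3 ≤ k
    · exact Or.inr (Or.inl (hlog 3 (by omega) (by norm_num)))
    revert hd hn
    interval_cases k <;> norm_num
  · by_cases h3 : 3 ≤ k
    · exact Or.inr (Or.inl (hlog 4 (by omega) (by norm_num)))
    revert hd hn
    interval_cases k <;> norm_num

lemma mod_eighteen : ∀ k c t : Fin 18, (2 ^ (k : ℕ) + 2 ^ (t : ℕ)) % 29127 = (1 + 2 ^ (c : ℕ)) % 29127 →
    ((k : ℕ) = 0 ∧ t = c) ∨ ((t : ℕ) = 0 ∧ k = c) := by decide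

lemma mod_six : ∀ k s t : Fin 6, (s : ℕ) ≠ 0 → (t : ℕ) ≠ 0 →
    (2 ^ (k : ℕ) + 2 ^ (t : ℕ)) % 21 = (1 + 2 ^ (((k : ℕ) + s) % 6)) % 21 → t = s := by decide

lemma six_root : ∀ k t : Fin 6, (2 ^ (k : ℕ) + 2 ^ (t : ℕ)) % 21 = 2 % 21 →
    (k : ℕ) = 0 ∧ (t : ℕ) = 0 := by decide

/-- `2 ^ k + 2 ^ t` determines the exponents modulo `m`, normalised with one exponent zero. -/
lemma key {n m e k t c : ℕ} (hn : 2 ≤ n) (hme : m * e = 2 ^ n - 1) (hen : e ∣ n)
    (hne : ¬ (n = 6 ∧ e = 3)) (hk : k < n) (ht : t < n) (hc : c < n)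
    (h : (2 ^ k + 2 ^ t) ≡ 1 + 2 ^ c [MOD m]) :
    (k = 0 ∧ t = c) ∨ (t = 0 ∧ k = c) := by
  have hN : m * e + 1 = 2 ^ n := by have := Nat.two_pow_pos n; omega
  -- shifting exponents modulo `n`
  have hper : ∀ x, 2 ^ x ≡ 2 ^ (x % n) [MOD m] := by
    intro x
    have h1 : 2 ^ n ≡ 1 [MOD m] := by
      rw [← hN]
      show (m * e + 1) % m = 1 % m
      simp [Nat.add_mod]
    have h2 := (h1.pow (x / n)).mul_right (2 ^ (x % n))
    rwa [one_pow, one_mul, ← pow_mul, ← pow_add, Nat.div_add_mod] at h2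
  rcases small_or hn ⟨m, by rw [mul_comm]; exact hme.symm⟩ hen with rfl | hsmall | hc6 | ⟨rfl, rfl⟩
  · -- no cofactor
    rw [mul_one] at hN
    obtain ⟨n, rfl⟩ : ∃ n', n = n' + 1 := ⟨n - 1, by omega⟩
    have hb : ∀ x, x < n + 1 → 2 ^ x ≤ 2 ^ n := fun x hx => Nat.pow_le_pow_right (by norm_num) (by omega)
    have h1 := hb k hk
    have h2 := hb t ht
    have h3 := hb c hc
    have := Nat.two_pow_pos k
    have := Nat.two_pow_pos t
    have := Nat.two_pow_pos c
    have hm : m + 1 = 2 * 2 ^ n := by rw [hN, pow_succ']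
    have heq : 2 ^ k + 2 ^ t = 2 ^ 0 + 2 ^ c := by
      rw [pow_zero]
      rcases le_total (2 ^ k + 2 ^ t) (1 + 2 ^ c) with hle | hle
      · have hd := (Nat.modEq_iff_dvd' hle).1 h
        rcases Nat.eq_zero_or_pos (1 + 2 ^ c - (2 ^ k + 2 ^ t)) with h0 | h0
        · omega
        · have := Nat.le_of_dvd h0 hd; omega
      · have hd := (Nat.modEq_iff_dvd' hle).1 h.symm
        rcases Nat.eq_zero_or_pos (2 ^ k + 2 ^ t - (1 + 2 ^ c)) with h0 | h0
        · omega
        · have := Nat.le_of_dvd h0 hd; omega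
    rcases sum_eq heq with ⟨a, b⟩ | ⟨a, b⟩
    · exact Or.inl ⟨a, b⟩
    · exact Or.inr ⟨b, a⟩
  · -- some window of length `n / 5` misses all four exponents
    set L := n / 5
    have hwin : ∃ i < 5, ∀ x ∈ [0, c, k, t], ¬ (i * L ≤ x ∧ x < (i + 1) * L) := by
      by_contra hall
      push Not at hall
      obtain ⟨x0, a0, b0, c0⟩ := hall 0 (by norm_num)
      obtain ⟨x1, a1, b1, c1⟩ := hall 1 (by norm_num)
      obtain ⟨x2, a2, b2, c2⟩ := hall 2 (by norm_num)
      obtain ⟨x3, a3, b3, c3⟩ := hall 3 (by norm_num)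
      obtain ⟨x4, a4, b4, c4⟩ := hall 4 (by norm_num)
      simp only [List.mem_cons, List.not_mem_nil, or_false] at a0 a1 a2 a3 a4
      omega
    obtain ⟨i, hi, hw⟩ := hwin
    have hiL : (i + 1) * L ≤ n :=
      le_trans (Nat.mul_le_mul_right L (by omega : i + 1 ≤ 5)) (Nat.mul_div_le n 5)
    have hiLL : i * L + L = (i + 1) * L := by ring
    set r := n - (i + 1) * L with hr
    have hsmallx : ∀ x ∈ [0, c, k, t], x < n → (x + r) % n + L < n + 1 ∧ (x + r) % n + r ≤ 2 * n := by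
      intro x hx hxn
      have := hw x hx
      rcases Nat.lt_or_ge (x + r) n with hlt | hge
      · rw [Nat.mod_eq_of_lt hlt]; omega
      · rw [Nat.mod_eq_sub_mod hge, Nat.mod_eq_of_lt (by omega)]; omega
    have hlt' : ∀ x ∈ [0, c, k, t], x < n → (x + r) % n + L + 1 ≤ n := by
      intro x hx hxn
      have := hw x hx
      rcases Nat.lt_or_ge (x + r) n with hlt | hge
      · rw [Nat.mod_eq_of_lt hlt]; omega
      · rw [Nat.mod_eq_sub_mod hge, Nat.mod_eq_of_lt (by omega)]; omega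
    have hk' := hlt' k (by simp) hk
    have ht' := hlt' t (by simp) ht
    have hc' := hlt' c (by simp) hc
    have h0' := hlt' 0 (by simp) (by omega)
    have hmod : 2 ^ ((k + r) % n) + 2 ^ ((t + r) % n) ≡
        2 ^ ((0 + r) % n) + 2 ^ ((c + r) % n) [MOD m] := by
      refine (((hper (k + r)).add (hper (t + r))).symm.trans ?_).trans
        ((hper (0 + r)).add (hper (c + r)))
      simpa [pow_add, add_mul] using h.mul_right (2 ^ r)
    obtain ⟨l, hl⟩ : ∃ l, n = l + 1 + L := ⟨n - 1 - L, by omega⟩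
    have hb : ∀ x, x + L + 1 ≤ n → 2 ^ x ≤ 2 ^ l := fun x hx =>
      Nat.pow_le_pow_right (by norm_num) (by omega)
    have b1 := hb _ hk'
    have b2 := hb _ ht'
    have b3 := hb _ hc'
    have b4 := hb _ h0'
    have := Nat.two_pow_pos ((k + r) % n)
    have := Nat.two_pow_pos ((t + r) % n)
    have := Nat.two_pow_pos ((0 + r) % n)
    have := Nat.two_pow_pos ((c + r) % n)
    have he : 1 ≤ e := Nat.pos_of_ne_zero fun h0 => by
      rw [h0, mul_zero] at hme
      have := Nat.pow_le_pow_right (show 0 < 2 by norm_num) hn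
      omega
    have hm : 2 * 2 ^ l ≤ m + 1 := by
      rw [hl, pow_add, pow_succ] at hN
      by_contra hlt
      have h1 : (m + 2) * e ≤ 2 ^ l * 2 * e := Nat.mul_le_mul_right e (by omega)
      have h2 : 2 ^ l * 2 * e ≤ 2 ^ l * 2 * 2 ^ L := Nat.mul_le_mul_left _ hsmall
      rw [add_mul] at h1
      omega
    have heq : 2 ^ ((k + r) % n) + 2 ^ ((t + r) % n) = 2 ^ ((0 + r) % n) + 2 ^ ((c + r) % n) := by
      rcases le_total (2 ^ ((k + r) % n) + 2 ^ ((t + r) % n))
        (2 ^ ((0 + r) % n) + 2 ^ ((c + r) % n)) with hle | hle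
      · have hd := (Nat.modEq_iff_dvd' hle).1 hmod
        rcases Nat.eq_zero_or_pos (2 ^ ((0 + r) % n) + 2 ^ ((c + r) % n) -
          (2 ^ ((k + r) % n) + 2 ^ ((t + r) % n))) with h0 | h0
        · omega
        · have := Nat.le_of_dvd h0 hd; omega
      · have hd := (Nat.modEq_iff_dvd' hle).1 hmod.symm
        rcases Nat.eq_zero_or_pos (2 ^ ((k + r) % n) + 2 ^ ((t + r) % n) -
          (2 ^ ((0 + r) % n) + 2 ^ ((c + r) % n))) with h0 | h0
        · omega
        · have := Nat.le_of_dvd h0 hd; omega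
    have hcancel : ∀ x y, x < n → y < n → (x + r) % n = (y + r) % n → x = y := by
      intro x y hx hy hxy
      have := Nat.ModEq.add_right_cancel' r (show x + r ≡ y + r [MOD n] from hxy)
      rwa [Nat.ModEq, Nat.mod_eq_of_lt hx, Nat.mod_eq_of_lt hy] at this
    rcases sum_eq heq with ⟨a, b⟩ | ⟨a, b⟩
    · exact Or.inl ⟨hcancel _ _ hk (by omega) a, hcancel _ _ ht hc b⟩
    · exact Or.inr ⟨hcancel _ _ ht (by omega) b, hcancel _ _ hk hc a⟩
  · exact absurd hc6 hne
  · obtain rfl : m = 29127 := by norm_num at hme; omega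
    rcases mod_eighteen ⟨k, hk⟩ ⟨c, hc⟩ ⟨t, ht⟩ h with ⟨a, b⟩ | ⟨a, b⟩
    · exact Or.inl ⟨a, congrArg Fin.val b⟩
    · exact Or.inr ⟨a, congrArg Fin.val b⟩

/-- Equal products of Frobenius powers on the subgroup of order `m`. -/
lemma prods {n m e k s t : ℕ} (hn : 2 ≤ n) (hme : m * e = 2 ^ n - 1) (hen : e ∣ n)
    (hk : k < n) (hs : s < n) (ht : t < n) (hs0 : s ≠ 0) (ht0 : t ≠ 0)
    (h : 2 ^ k + 2 ^ t ≡ 1 + 2 ^ ((k + s) % n) [MOD m]) : t = s := by
  by_cases h6 : n = 6 ∧ e = 3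
  · obtain ⟨rfl, rfl⟩ := h6
    obtain rfl : m = 21 := by norm_num at hme; omega
    exact congrArg Fin.val (mod_six ⟨k, hk⟩ ⟨s, hs⟩ ⟨t, ht⟩ hs0 ht0 h)
  rcases key hn hme hen h6 hk ht (Nat.mod_lt _ (by omega)) h with ⟨rfl, rfl⟩ | ⟨rfl, -⟩
  · rw [zero_add, Nat.mod_eq_of_lt hs]
  · exact absurd rfl ht0

/-- `2 ^ s + 2 ^ t ≡ 2` only for `s = t = 0`. -/
lemma root {n m e s t : ℕ} (hn : 2 ≤ n) (hme : m * e = 2 ^ n - 1) (hen : e ∣ n)
    (hs : s < n) (ht : t < n) (h : 2 ^ s + 2 ^ t ≡ 2 [MOD m]) : s = 0 ∧ t = 0 := by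
  by_cases h6 : n = 6 ∧ e = 3
  · obtain ⟨rfl, rfl⟩ := h6
    obtain rfl : m = 21 := by norm_num at hme; omega
    exact six_root ⟨s, hs⟩ ⟨t, ht⟩ h
  rcases key hn hme hen h6 hs ht (show 0 < n by omega) (by simpa using h) with h' | h' <;> omega

/-- Every prime divisor of `2 ^ n - 1` divides `m`. -/
lemma prime_dvd {n m e r : ℕ} (hn : 2 ≤ n) (hme : m * e = 2 ^ n - 1) (hen : e ∣ n)
    (hr : r.Prime) (hrN : r ∣ 2 ^ n - 1) : r ∣ m := by
  have := Fact.mk hr
  by_contra hrm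
  have h4 : 4 ≤ 2 ^ n := le_trans (by norm_num) (Nat.pow_le_pow_right (by norm_num : 2 > 0) hn)
  obtain ⟨j, l, hl, hnl⟩ := Nat.exists_eq_pow_mul_and_not_dvd (show n ≠ 0 by omega) r hr.ne_one
  have h1 : ((2 : ZMod r) ^ l) = 1 := by
    have hN : ((2 : ZMod r) ^ l) ^ r ^ j = 1 := by
      rw [← pow_mul, mul_comm, ← hnl]
      have := (ZMod.natCast_eq_zero_iff _ r).2 hrN
      rw [Nat.cast_sub (Nat.one_le_two_pow)] at this
      push_cast at this
      exact sub_eq_zero.1 this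
    rwa [ZMod.pow_card_pow] at hN
  have hlift : ∀ i, r ^ (i + 1) ∣ 2 ^ (r ^ i * l) - 1 := by
    intro i
    induction i with
    | zero =>
      rw [pow_zero, one_mul, zero_add, pow_one, ← ZMod.natCast_eq_zero_iff,
        Nat.cast_sub Nat.one_le_two_pow]
      push_cast
      rw [h1, sub_self]
    | succ i ih =>
      rw [pow_succ r i, show r ^ i * r * l = r ^ i * l * r by ring, pow_mul 2]
      set x := 2 ^ (r ^ i * l) with hx
      have hx1 : 1 ≤ x := Nat.one_le_two_pow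
      have e : ((x ^ r - 1 : ℕ) : ℤ) = (∑ a ∈ Finset.range r, (x : ℤ) ^ a) * ((x : ℤ) - 1) := by
        rw [geom_sum_mul, Nat.cast_sub (Nat.one_le_pow _ _ hx1)]
        push_cast; ring
      rw [← Int.natCast_dvd_natCast, e, Nat.cast_pow, pow_succ, mul_comm ((r : ℤ) ^ (i + 1))]
      refine mul_dvd_mul ?_ ?_
      · rw [← ZMod.intCast_zmod_eq_zero_iff_dvd]
        have hx0 : ((x : ℕ) : ZMod r) = 1 := by
          have h2 : r ∣ x - 1 := dvd_trans (dvd_pow_self r (by omega)) ih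
          rw [← ZMod.natCast_eq_zero_iff, Nat.cast_sub hx1] at h2
          simpa [sub_eq_zero] using h2
        push_cast
        simp [hx0]
      · have := Int.natCast_dvd_natCast.2 ih
        rw [Nat.cast_sub hx1] at this
        simpa using this
  have h2 : r ^ (j + 1) ∣ m * e := by
    rw [hme, hnl]; exact hlift j
  have h3 : r ^ (j + 1) ∣ n :=
    (Nat.Coprime.dvd_of_dvd_mul_left
      (Nat.Coprime.pow_left _ ((Nat.Prime.coprime_iff_not_dvd hr).2 hrm)) h2).trans hen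
  rw [hnl, pow_succ] at h3
  exact hl ((Nat.mul_dvd_mul_iff_left (pow_pos hr.pos j)).1 h3)

end Cfsg.Agent.LocalEvenD.STwo.Num
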