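import Cfsg.Agent.LocalEvenD.STwo.Num
import Cfsg.Agent.Lib.RankOne.FieldAut

/-!
A subgroup of small index in the multiplicative group of a field of characteristic two: it spans
the field, meets every non-trivial cyclic subgroup, and Frobenius powers are told apart by it.
-/

set_option autoImplicit false

namespace Cfsg.Agent.LocalEvenD.STwo

/-- What is used about the scalars. -/
structure Scalars {F : Type*} [Field F] (M : Subgroup Fˣ) : Prop where
  auto : ∀ (τ : F ≃+* F), ∀ u ∈ M, Units.map (τ : F →* F) u ∈ M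
  meet : ∀ u : Fˣ, u ≠ 1 → ∃ k : ℕ, u ^ k ∈ M ∧ u ^ k ≠ 1
  span : AddSubgroup.closure ((fun u : Fˣ => (u : F)) '' (M : Set Fˣ)) = ⊤
  root : ∀ σ τ : F ≃+* F, (∀ u ∈ M, σ (u : F) * τ (u : F) = (u : F)) → σ = τ
  prods : ∀ r σ τ : F ≃+* F, (∃ x, σ x ≠ x) → (∃ x, τ x ≠ x) →
    (∀ u ∈ M, r (u : F) * τ (u : F) = (u : F) * r (σ (u : F))) → τ = σ

set_option linter.unusedSectionVars false
set_option linter.style.haveILetI false

variable {F : Type*} [Field F] [Fintype F] [CharP F 2]

/-- Every automorphism is a power of the Frobenius map. -/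
theorem exists_frob [Algebra (ZMod 2) F] (τ : F ≃+* F) :
    ∃ t < Module.finrank (ZMod 2) F, ∀ x, τ x = x ^ 2 ^ t := by
  let e : F ≃ₐ[ZMod 2] F := AlgEquiv.ofRingEquiv (f := τ) (fun r =>
    RingHom.congr_fun (RingHom.ext_zmod ((τ : F →+* F).comp (algebraMap (ZMod 2) F))
      (algebraMap (ZMod 2) F)) r)
  obtain ⟨⟨t, ht⟩, he⟩ := (FiniteField.bijective_frobeniusAlgEquivOfAlgebraic_pow (ZMod 2) F).2 e
  refine ⟨t, ht, fun x => ?_⟩
  show e x = _
  rw [← he]
  show (FiniteField.frobeniusAlgEquivOfAlgebraic (ZMod 2) F ^ t) x = _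
  rw [AlgEquiv.coe_pow, FiniteField.coe_frobeniusAlgEquivOfAlgebraic_iterate, ZMod.card]

theorem scalars_of_index {M : Subgroup Fˣ} [Algebra (ZMod 2) F]
    (hn : 2 ≤ Module.finrank (ZMod 2) F) (hdvd : M.index ∣ Module.finrank (ZMod 2) F) :
    Scalars M := by
  classical
  set n := Module.finrank (ZMod 2) F
  have hq : Fintype.card F = 2 ^ n := by
    rw [Module.card_eq_pow_finrank (K := ZMod 2), ZMod.card]
  set m := Nat.card M
  have hme : m * M.index = 2 ^ n - 1 := by
    rw [Subgroup.card_mul_index, Nat.card_eq_fintype_card, Fintype.card_units, hq]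
  have hm0 : 0 < m := Nat.card_pos
  have hpow : ∀ u ∈ M, ∀ a b : ℕ, a ≡ b [MOD m] → (u : F) ^ a = (u : F) ^ b := fun u hu a b hab => by
    have h1 : u ^ m = 1 := congrArg Subtype.val (pow_card_eq_one' (x := (⟨u, hu⟩ : M)))
    rw [← Units.val_pow_eq_pow_val, ← Units.val_pow_eq_pow_val, pow_eq_pow_iff_modEq.2
      (hab.of_dvd (orderOf_dvd_of_pow_eq_one h1))]
  have hmem : ∀ u : Fˣ, u ^ m = 1 → u ∈ M := by
    intro u hu
    obtain ⟨g, hg⟩ := IsCyclic.exists_generator (α := M)
    have hgord : orderOf (g : Fˣ) = m := by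
      rw [Subgroup.orderOf_coe]; exact orderOf_eq_card_of_forall_mem_zpowers hg
    obtain ⟨k, -, hk⟩ : ∃ k < m, (g : Fˣ) ^ k = u := by
      have hp : IsPrimitiveRoot (g : Fˣ) m := hgord ▸ IsPrimitiveRoot.orderOf (g : Fˣ)
      haveI : NeZero m := ⟨hm0.ne'⟩
      obtain ⟨k, hk1, hk2⟩ := (hp.map_of_injective (f := Units.coeHom F) Units.val_injective).eq_pow_of_pow_eq_one
        (ξ := (u : F)) (by rw [← Units.val_pow_eq_pow_val, hu, Units.val_one])
      exact ⟨k, hk1, Units.ext (by simpa using hk2)⟩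
    exact hk ▸ M.pow_mem g.2 k
  have hgen : ∀ a b : ℕ, (∀ u ∈ M, (u : F) ^ a = (u : F) ^ b) → a ≡ b [MOD m] := by
    intro a b h
    obtain ⟨g, hg⟩ := IsCyclic.exists_generator (α := M)
    have hgord : orderOf (g : Fˣ) = m := by
      rw [Subgroup.orderOf_coe]; exact orderOf_eq_card_of_forall_mem_zpowers hg
    rw [← hgord]
    exact pow_eq_pow_iff_modEq.1 (Units.ext (by simpa using h g g.2))
  have hper : ∀ x, 2 ^ x ≡ 2 ^ (x % n) [MOD m] := by
    intro x
    have h1 : 2 ^ n ≡ 1 [MOD m] := by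
      rw [show 2 ^ n = m * M.index + 1 by have := Nat.two_pow_pos n; omega]
      show (m * M.index + 1) % m = 1 % m
      simp [Nat.add_mod]
    have h2 := (h1.pow (x / n)).mul_right (2 ^ (x % n))
    rwa [one_pow, one_mul, ← pow_mul, ← pow_add, Nat.div_add_mod] at h2
  have hid : ∀ σ : F ≃+* F, ∀ s, (∀ x, σ x = x ^ 2 ^ s) → (∃ x, σ x ≠ x) → s ≠ 0 := by
    rintro σ s hs ⟨x, hx⟩ rfl
    exact hx (by rw [hs, pow_zero, pow_one])
  have heq : ∀ σ τ : F ≃+* F, ∀ s, (∀ x, σ x = x ^ 2 ^ s) → (∀ x, τ x = x ^ 2 ^ s) → σ = τ :=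
    fun σ τ s hs ht => RingEquiv.ext fun x => by rw [hs, ht]
  refine
    { auto := fun τ u hu => hmem _ ?_
      meet := fun u hu => ?_
      span := ?_
      root := fun σ τ h => ?_
      prods := fun r σ τ hσ hτ h => ?_ }
  · rw [← map_pow, show u ^ m = 1 from congrArg Subtype.val (pow_card_eq_one' (x := (⟨u, hu⟩ : M))),
      map_one]
  · -- a power of prime order
    obtain ⟨r, hr, hru⟩ := Nat.exists_prime_and_dvd (show orderOf u ≠ 1 by simpa using hu)
    have hrm : r ∣ m := Num.prime_dvd hn hme hdvd hr (by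
      rw [← hme, Subgroup.card_mul_index]
      exact hru.trans (orderOf_dvd_natCard u))
    have hord : orderOf (u ^ (orderOf u / r)) = r := orderOf_pow_orderOf_div (orderOf_pos u).ne' hru
    refine ⟨orderOf u / r, hmem _ (orderOf_dvd_iff_pow_eq_one.1 (by rw [hord]; exact hrm)), fun h => hr.ne_one ?_⟩
    rw [← hord, h, orderOf_one]
  · -- the additive span
    set S := AddSubgroup.closure ((fun u : Fˣ => (u : F)) '' (M : Set Fˣ))
    have hmul : ∀ x ∈ S, ∀ y ∈ S, x * y ∈ S := by
      intro x hx y hy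
      induction hx using AddSubgroup.closure_induction with
      | mem a ha =>
        obtain ⟨u, hu, rfl⟩ := ha
        induction hy using AddSubgroup.closure_induction with
        | mem b hb =>
          obtain ⟨v, hv, rfl⟩ := hb
          exact AddSubgroup.subset_closure ⟨u * v, M.mul_mem hu hv, Units.val_mul u v⟩
        | zero => rw [mul_zero]; exact S.zero_mem
        | add a b _ _ h1 h2 => rw [mul_add]; exact S.add_mem h1 h2
        | neg a _ h1 => rw [mul_neg]; exact S.neg_mem h1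
      | zero => rw [zero_mul]; exact S.zero_mem
      | add a b _ _ h1 h2 => rw [add_mul]; exact S.add_mem h1 h2
      | neg a _ h1 => rw [neg_mul]; exact S.neg_mem h1
    let R : Subring F :=
      { S with
        mul_mem' := fun {a b} ha hb => hmul a ha b hb
        one_mem' := AddSubgroup.subset_closure ⟨1, M.one_mem, Units.val_one⟩ }
    letI : Fintype R := Fintype.ofFinite R
    letI : Field R := Fintype.fieldOfDomain R
    have hpS : IsPGroup 2 (Multiplicative S) := fun x => ⟨1, by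
      rw [pow_one, pow_two]
      apply Multiplicative.toAdd.injective
      exact Subtype.ext (CharTwo.add_self_eq_zero _)⟩
    obtain ⟨d, hd⟩ := IsPGroup.iff_card.1 hpS
    have hd' : Nat.card S = 2 ^ d := (Nat.card_congr Multiplicative.ofAdd).trans hd
    have hfix : ∀ x ∈ S, x ^ 2 ^ d = x := by
      intro x hx
      have h := FiniteField.pow_card (⟨x, hx⟩ : R)
      rw [← Nat.card_eq_fintype_card, show Nat.card R = Nat.card S from rfl, hd'] at h
      exact congrArg Subtype.val h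
    rw [← AddSubgroup.card_eq_iff_eq_top, hd', Nat.card_eq_fintype_card, hq]
    have hdn : d ≤ n := by
      refine (Nat.pow_le_pow_iff_right (le_refl 2)).1 ?_
      rw [← hd', ← hq, ← Nat.card_eq_fintype_card]
      exact Nat.card_le_card_of_injective _ Subtype.val_injective
    rcases hdn.eq_or_lt with rfl | hlt
    · rfl
    exfalso
    have h1 : 2 ^ d + 2 ^ 0 ≡ 2 [MOD m] := by
      refine (hgen _ _ fun u hu => ?_).trans rfl
      rw [pow_add, hfix _ (AddSubgroup.subset_closure ⟨u, hu, rfl⟩), pow_zero, pow_one, pow_two]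
    obtain ⟨rfl, -⟩ := Num.root hn hme hdvd hlt (by omega) h1
    have h01 : (0 : F) ∈ S ∧ (1 : F) ∈ S :=
      ⟨S.zero_mem, AddSubgroup.subset_closure ⟨1, M.one_mem, Units.val_one⟩⟩
    rw [pow_zero, Nat.card_eq_one_iff_unique] at hd'
    exact zero_ne_one (congrArg Subtype.val (hd'.1.elim ⟨0, h01.1⟩ ⟨1, h01.2⟩))
  · obtain ⟨s, hs, hsx⟩ := exists_frob σ
    obtain ⟨t, ht, htx⟩ := exists_frob τ
    have h1 : 2 ^ (s + 1) + 2 ^ (t + 1) ≡ 2 [MOD m] := by
      refine hgen _ _ fun u hu => ?_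
      have := h u hu
      rw [hsx, htx] at this
      rw [pow_add, pow_succ 2 s, pow_succ 2 t, pow_mul, pow_mul, ← mul_pow, this]
    have h2 := ((hper (s + 1)).add (hper (t + 1))).symm.trans h1
    obtain ⟨a, b⟩ := Num.root hn hme hdvd (Nat.mod_lt _ (by omega)) (Nat.mod_lt _ (by omega)) h2
    have hst : s = t := by
      have hwrap : ∀ x, x < n → (x + 1) % n = 0 → x = n - 1 := fun x hx h0 => by
        rcases Nat.lt_or_ge (x + 1) n with h | h
        · rw [Nat.mod_eq_of_lt h] at h0; omega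
        · omega
      rw [hwrap s hs a, hwrap t ht b]
    subst hst
    exact heq σ τ s hsx htx
  · obtain ⟨k, hk, hkx⟩ := exists_frob r
    obtain ⟨s, hs, hsx⟩ := exists_frob σ
    obtain ⟨t, ht, htx⟩ := exists_frob τ
    have h1 : 2 ^ k + 2 ^ t ≡ 1 + 2 ^ ((k + s) % n) [MOD m] := by
      refine Nat.ModEq.trans (hgen _ (1 + 2 ^ (k + s)) fun u hu => ?_)
        ((hper (k + s)).add_left 1)
      have := h u hu
      rw [hkx, hkx, hsx, htx, ← pow_mul] at this
      rw [pow_add, pow_add, this, pow_one, pow_add, mul_comm (2 ^ k) (2 ^ s)]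
    obtain rfl := Num.prods hn hme hdvd hk hs ht (hid σ s hsx hσ) (hid τ t htx hτ) h1
    exact heq τ σ _ htx hsx

end Cfsg.Agent.LocalEvenD.STwo
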