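import Mathlib
import Cfsg.Agent.LocalEvenD.STwo.Frame
import Cfsg.Agent.Huppert69.Main

/-!
A solvable group of automorphisms transitive on the involutions of a 2-group with at least two
involutions gives a frame.
-/

set_option autoImplicit false
set_option linter.style.haveILetI false

namespace Cfsg.Agent.LocalEvenD.STwo

variable {P : Type*} [Group P]

/-- With transitive automorphisms the involutions are central. -/
theorem invol_mem_center [Finite P] (hP : IsPGroup 2 P) (Y : Subgroup (MulAut P))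
    (hY : ∀ x y : P, x ≠ 1 → x * x = 1 → y ≠ 1 → y * y = 1 → ∃ a ∈ Y, a x = y)
    {x : P} (hx : x * x = 1) : x ∈ Subgroup.center P := by
  rcases eq_or_ne x 1 with rfl | hx1
  · exact Subgroup.one_mem _
  have : Fact (Nat.Prime 2) := ⟨Nat.prime_two⟩
  have : Nontrivial P := ⟨⟨x, 1, hx1⟩⟩
  obtain ⟨z, hz, hz1⟩ :=
    (Subgroup.nontrivial_iff_exists_ne_one _).1 (IsPGroup.center_nontrivial hP)
  obtain ⟨n, hn1, hn2⟩ := Frame.exists_invol_power hP hz1
  obtain ⟨a, -, rfl⟩ := hY _ x hn1 hn2 hx1 hx
  rw [Subgroup.mem_center_iff]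
  intro g
  have := congrArg a (Subgroup.mem_center_iff.1 (Subgroup.pow_mem _ hz n) (a.symm g))
  rwa [map_mul, map_mul, MulEquiv.apply_symm_apply] at this

theorem exists_frame [Finite P] (hP : IsPGroup 2 P) (Y : Subgroup (MulAut P))
    (hsol : Group.IsSolvable Y) (htwo : ∃ x y : P, x ≠ y ∧ x ≠ 1 ∧ x * x = 1 ∧ y ≠ 1 ∧ y * y = 1)
    (hY : ∀ x y : P, x ≠ 1 → x * x = 1 → y ≠ 1 → y * y = 1 → ∃ a ∈ Y, a x = y) :
    ∃ (F : Type) (_ : Field F) (_ : Fintype F) (_ : CharP F 2) (fr : Frame P F),
      ∃ u0 : fr.M, u0 ≠ 1 := by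
  classical
  have hfa : Finite (MulAut P) :=
    Finite.of_injective (fun g : MulAut P => (g : P → P)) DFunLike.coe_injective
  have hcen : ∀ {x : P}, x * x = 1 → ∀ g, g * x = x * g := fun hx g =>
    Subgroup.mem_center_iff.1 (invol_mem_center hP Y hY hx) g
  let Ω : Subgroup P :=
    { carrier := {x | x * x = 1}
      one_mem' := mul_one 1
      mul_mem' := fun {x y} hx hy => by
        show x * y * (x * y) = 1
        rw [show x * y * (x * y) = x * (y * x) * y by group, hcen hx y,
          show x * (x * y) * y = (x * x) * (y * y) by group, hx, hy, mul_one]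
      inv_mem' := fun {x} hx => by
        show x⁻¹ * x⁻¹ = 1
        rw [← mul_inv_rev, hx, inv_one] }
  letI : CommGroup Ω :=
    { (inferInstance : Group Ω) with
      mul_comm := fun a b => Subtype.ext (hcen b.2 a) }
  let V := Additive Ω
  letI : Module (ZMod 2) V := AddCommGroup.zmodModule (n := 2) fun v => by
    rw [two_nsmul]
    exact Subtype.ext (Additive.toMul v).2
  let res : MulAut P → V → V := fun g v =>
    Additive.ofMul ⟨g ((Additive.toMul v : Ω) : P), by
      show g _ * g _ = 1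
      rw [← map_mul, (Additive.toMul v).2, map_one]⟩
  let ρ₀ : MulAut P →* (V ≃ₗ[ZMod 2] V) :=
    { toFun := fun g =>
        let f : V ≃+ V :=
          { toFun := res g
            invFun := res g.symm
            left_inv := fun v => Subtype.ext (g.symm_apply_apply _)
            right_inv := fun v => Subtype.ext (g.apply_symm_apply _)
            map_add' := fun v w => Subtype.ext (map_mul g _ _) }
        { f with map_smul' := fun c v => ZMod.map_smul f.toAddMonoidHom c v }
      map_one' := LinearEquiv.ext fun v => rfl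
      map_mul' := fun g h => LinearEquiv.ext fun v => rfl }
  let ρ : Y →* (V ≃ₗ[ZMod 2] V) := ρ₀.comp Y.subtype
  have hρ : ∀ (g : Y) (v : V),
      ((Additive.toMul (ρ g v) : Ω) : P) = (g : MulAut P) ((Additive.toMul v : Ω) : P) :=
    fun g v => rfl
  have hval : ∀ v : V, v = 0 ↔ ((Additive.toMul v : Ω) : P) = 1 := fun v =>
    ⟨fun h => by rw [h]; rfl, fun h => Subtype.ext h⟩
  obtain ⟨x₁, x₂, hne, h11, h12, h21, h22⟩ := htwo
  let v₁ : V := Additive.ofMul ⟨x₁, h12⟩
  let v₂ : V := Additive.ofMul ⟨x₂, h22⟩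
  have hv₁ : v₁ ≠ 0 := fun h => h11 ((hval v₁).1 h)
  have hv₂ : v₂ ≠ 0 := fun h => h21 ((hval v₂).1 h)
  have : Nontrivial V := ⟨⟨v₁, 0, hv₁⟩⟩
  have hfv : Finite V := inferInstanceAs (Finite Ω)
  have htr : ∀ v w : V, v ≠ 0 → w ≠ 0 → ∃ g : Y, ρ g v = w := by
    intro v w hv hw
    obtain ⟨a, ha, hav⟩ := hY _ _ (fun h => hv ((hval v).2 h)) (Additive.toMul v).2
      (fun h => hw ((hval w).2 h)) (Additive.toMul w).2
    exact ⟨⟨a, ha⟩, Subtype.ext hav⟩
  have : Finite (V ≃ₗ[ZMod 2] V) :=
    Finite.of_injective (fun f : V ≃ₗ[ZMod 2] V => (f : V → V)) DFunLike.coe_injective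
  have : Group.IsSolvable Y := hsol
  have hsolR : Group.IsSolvable ρ.range :=
    solvable_of_surjective (f := ρ.rangeRestrict) ρ.rangeRestrict_surjective
  obtain ⟨F, fF, fFin, e, he⟩ : ∃ (F : Type) (_ : Field F) (_ : Fintype F) (e : V ≃+ F),
      ∀ g : Y, ∃ (a : F) (σ : F ≃+* F), ∀ v : V, e (ρ g v) = a * σ (e v) := by
    have htrR : ∀ v w : V, v ≠ 0 → w ≠ 0 → ∃ g : ρ.range, ρ.range.subtype g v = w := by
      intro v w hv hw
      obtain ⟨g, hg⟩ := htr v w hv hw
      exact ⟨⟨ρ g, g, rfl⟩, hg⟩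
    rcases Huppert69.semilinear_or_exceptional hsolR Subtype.val_injective htrR with
      ⟨F, i1, i2, e, he⟩ | ⟨-, h81 | ⟨-, hq⟩⟩
    · exact ⟨F, i1, i2, e, fun g => he ⟨ρ g, g, rfl⟩⟩
    · exfalso
      obtain ⟨k, hk⟩ := (IsPGroup.iff_card (p := 2)).1 (hP.to_subgroup Ω)
      have h1 : Nat.card V = 2 ^ k := hk
      rw [h81] at h1
      rcases Nat.eq_zero_or_pos k with rfl | hk0
      · norm_num at h1
      · obtain ⟨j, rfl⟩ := Nat.exists_eq_succ_of_ne_zero hk0.ne'
        rw [pow_succ] at h1
        omega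
    · omega
  choose a σ he using he
  have h2F : (2 : F) = 0 := by
    have h := map_add e (e.symm 1) (e.symm 1)
    rw [← two_nsmul] at h
    have h0 : (2 : ℕ) • e.symm (1 : F) = 0 := by
      rw [two_nsmul]; exact Subtype.ext (Additive.toMul (e.symm (1 : F))).2
    rw [h0, map_zero, e.apply_symm_apply, one_add_one_eq_two] at h
    exact h.symm
  haveI hch : CharP F 2 := CharTwo.of_one_ne_zero_of_two_eq_zero one_ne_zero h2F
  letI : Algebra (ZMod 2) F := ZMod.algebra F 2
  set n := Module.finrank (ZMod 2) F with hn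
  have hn2 : 2 ≤ n := by
    have hq : Fintype.card F = 2 ^ n := by
      rw [Module.card_eq_pow_finrank (K := ZMod 2), ZMod.card]
    have h3 : 3 ≤ Fintype.card F := by
      have hd : ({0, e v₁, e v₂} : Finset F).card = 3 :=
        Finset.card_eq_three.2 ⟨0, e v₁, e v₂,
          fun h => hv₁ (e.injective (h.symm.trans (map_zero e).symm)),
          fun h => hv₂ (e.injective (h.symm.trans (map_zero e).symm)),
          fun h => hne (congrArg (fun v : V => ((Additive.toMul v : Ω) : P)) (e.injective h)), rfl⟩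
      exact hd ▸ Finset.card_le_univ _
    by_contra hlt
    have : 2 ^ n ≤ 2 ^ 1 := Nat.pow_le_pow_right (by norm_num) (by omega)
    omega
  have ha0 : ∀ g, a g ≠ 0 := by
    intro g h0
    have h1 := he g v₁
    rw [h0, zero_mul, map_eq_zero_iff e e.injective, map_eq_zero_iff (ρ g) (ρ g).injective] at h1
    exact hv₁ h1
  let au : Y → Fˣ := fun g => Units.mk0 (a g) (ha0 g)
  have hact : ∀ g x, e (ρ g (e.symm x)) = a g * σ g x := fun g x => by
    rw [he, e.apply_symm_apply]
  have hmul : ∀ g h, a (g * h) = a g * σ g (a h) ∧ ∀ x, σ (g * h) x = σ g (σ h x) := by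
    intro g h
    have h1 : ∀ x, a (g * h) * σ (g * h) x = a g * σ g (a h) * σ g (σ h x) := by
      intro x
      rw [← hact, map_mul, LinearEquiv.mul_apply, he, hact, map_mul, mul_assoc]
    have h2 : a (g * h) = a g * σ g (a h) := by simpa using h1 1
    refine ⟨h2, fun x => ?_⟩
    have h3 := h1 x
    rw [← h2] at h3
    exact mul_left_cancel₀ (ha0 _) h3
  have : Finite (F ≃+* F) :=
    Finite.of_injective (fun τ : F ≃+* F => (τ : F → F)) DFunLike.coe_injective
  let s : Y →* (F ≃+* F) := MonoidHom.mk' σ fun g h => RingEquiv.ext fun x => (hmul g h).2 x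
  have hker : ∀ g ∈ s.ker, ∀ x, σ g x = x := fun g hg x => by
    have : σ g = 1 := hg
    rw [this]; rfl
  let aK : s.ker →* Fˣ := MonoidHom.mk' (fun g => au g) fun g h => Units.ext (by
    show a ((g : Y) * h) = a g * a h
    rw [(hmul g h).1, hker g g.2])
  let M : Subgroup Fˣ := aK.range
  have hauto : ∀ (τ : F ≃+* F), ∀ u ∈ M, Units.map (τ : F →* F) u ∈ M := by
    intro τ u hu
    obtain ⟨t, -, ht⟩ := exists_frob τ
    have : Units.map (τ : F →* F) u = u ^ 2 ^ t := Units.ext (by simp [ht])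
    rw [this]
    exact M.pow_mem hu _
  have haumul : ∀ g h, au (g * h) = au g * Units.map (σ g : F →* F) (au h) := fun g h =>
    Units.ext (hmul g h).1
  have hau1 : au 1 = 1 := by
    have h1 := haumul 1 1
    rw [mul_one] at h1
    have h2 : Units.map (σ 1 : F →* F) (au 1) = 1 := left_eq_mul.1 h1
    refine Units.map_injective (f := (σ 1 : F →* F)) (σ 1).injective ?_
    rw [h2, map_one]
  let H : Subgroup Y :=
    { carrier := {g | au g ∈ M}
      one_mem' := by show au 1 ∈ M; rw [hau1]; exact M.one_mem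
      mul_mem' := fun {g h} hg hh => by
        show au (g * h) ∈ M
        rw [haumul]; exact M.mul_mem hg (hauto _ _ hh)
      inv_mem' := fun {g} hg => by
        show au g⁻¹ ∈ M
        have h := haumul g⁻¹ g
        rw [inv_mul_cancel, hau1] at h
        rw [eq_inv_of_mul_eq_one_left h.symm]
        exact M.inv_mem (hauto _ _ hg) }
  have hsurj : ∀ u : Fˣ, ∃ g, au g = u := by
    intro u
    have h1 : e.symm (1 : F) ≠ 0 := fun h => one_ne_zero (α := F) (by
      rw [← e.apply_symm_apply (1 : F), h, map_zero])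
    have h2 : e.symm (u : F) ≠ 0 := fun h => u.ne_zero (by
      rw [← e.apply_symm_apply (u : F), h, map_zero])
    obtain ⟨g, hg⟩ := htr _ _ h1 h2
    refine ⟨g, Units.ext ?_⟩
    show a g = u
    have h3 := hact g 1
    rw [hg, e.apply_symm_apply, map_one, mul_one] at h3
    exact h3.symm
  have hindex : M.index ∣ n := by
    have hrel : ∀ g h : Y, ((au g : Fˣ ⧸ M) = (au h : Fˣ ⧸ M)) ↔ g⁻¹ * h ∈ H := by
      intro g h
      rw [QuotientGroup.eq]
      have h1 := haumul g (g⁻¹ * h)
      rw [mul_inv_cancel_left] at h1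
      rw [h1, inv_mul_cancel_left]
      refine ⟨fun hm => ?_, fun hm => hauto _ _ hm⟩
      show au (g⁻¹ * h) ∈ M
      have h2 := hauto (σ g).symm _ hm
      rwa [show Units.map ((σ g).symm : F →* F) (Units.map (σ g : F →* F) (au (g⁻¹ * h))) =
        au (g⁻¹ * h) from Units.ext ((σ g).symm_apply_apply _)] at h2
    let f : Y ⧸ H → Fˣ ⧸ M := Quotient.lift (fun g => ((au g : Fˣ) : Fˣ ⧸ M))
      fun g h hgh => (hrel g h).2 (QuotientGroup.leftRel_apply.1 hgh)
    have hf : Function.Bijective f := by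
      refine ⟨fun x y => ?_, fun q => ?_⟩
      · induction x using Quotient.inductionOn with
        | h g =>
          induction y using Quotient.inductionOn with
          | h g' => exact fun h => Quotient.sound (QuotientGroup.leftRel_apply.2 ((hrel g g').1 h))
      · obtain ⟨u, rfl⟩ := QuotientGroup.mk_surjective q
        obtain ⟨g, rfl⟩ := hsurj u
        exact ⟨(g : Y ⧸ H), rfl⟩
    have h1 : M.index = H.index := (Nat.card_eq_of_bijective f hf).symm
    have hle : s.ker ≤ H := fun g hg => ⟨⟨g, hg⟩, rfl⟩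
    have h2 : s.ker.index ∣ n := by
      rw [Subgroup.index_ker]
      have : Fintype (F ≃+* F) := Fintype.ofFinite _
      exact (Subgroup.card_subgroup_dvd_card _).trans (dvd_of_eq RankOne.card_aut)
    exact h1 ▸ (Subgroup.index_dvd_of_le hle).trans h2
  have hS : Scalars M := scalars_of_index hn2 hindex
  choose lift hlift using fun u : M => (u.2 : ∃ g, aK g = (u : Fˣ))
  let fr : Frame P F :=
    { emb := fun x => ((Additive.toMul (e.symm x) : Ω) : P)
      Y := Y
      M := M
      aut := fun u => ((lift u : Y) : MulAut P)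
      emb_add := fun x y => by rw [map_add]; rfl
      emb_inj := fun x y h => e.symm.injective (Subtype.ext h)
      emb_range := fun x => ⟨fun hx => ⟨e (Additive.ofMul ⟨x, hx⟩), by rw [e.symm_apply_apply]; rfl⟩,
        fun ⟨b, hb⟩ => hb ▸ (Additive.toMul (e.symm b)).2⟩
      trans := fun x y hx hy => by
        obtain ⟨g, hg⟩ := htr (e.symm x) (e.symm y)
          (fun h => hx (by rw [← e.apply_symm_apply x, h, map_zero]))
          (fun h => hy (by rw [← e.apply_symm_apply y, h, map_zero]))
        exact ⟨g, g.2, by rw [← hρ, hg]⟩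
      aut_mem := fun u => (lift u : Y).2
      aut_emb := fun u x => by
        rw [← hρ]
        congr 2
        rw [eq_comm, AddEquiv.symm_apply_eq, hact, hker _ (lift u).2]
        congr 1
        exact (congrArg Units.val (hlift u)).symm
      scalars := hS }
  obtain ⟨u, hu⟩ : ∃ u : Fˣ, u ≠ 1 := by
    refine Fintype.exists_ne_of_one_lt_card ?_ 1
    rw [Fintype.card_units, Module.card_eq_pow_finrank (K := ZMod 2), ZMod.card, ← hn]
    have : 2 ^ 2 ≤ 2 ^ n := Nat.pow_le_pow_right (by norm_num) hn2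
    omega
  obtain ⟨k, hk, hk1⟩ := hS.meet u hu
  exact ⟨F, fF, fFin, hch, fr, ⟨_, hk⟩, fun h => hk1 (congrArg Subtype.val h)⟩

end Cfsg.Agent.LocalEvenD.STwo
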